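import Cfsg.Prelude.Def_KGroupFacts
import Mathlib

/-!
# Bounding the outer automorphism group by an element of prime order and its normaliser
-/

set_option autoImplicit false

namespace CfsgLib.MathieuOut

variable {G : Type*} [Group G] [Finite G]

/-- Subgroups of order a prime dividing the group order exactly once are conjugate. -/
theorem exists_conj_zpowers {p : ℕ} [Fact p.Prime] (hsq : ¬ p ^ 2 ∣ Nat.card G) {u y : G}
    (hu : orderOf u = p) (hy : orderOf y = p) : ∃ g : G, ∃ k : ℕ, ¬ p ∣ k ∧ g * y * g⁻¹ = u ^ k := by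
  have hfac : (Nat.card G).factorization p = 1 := by
    have ha : 1 ≤ (Nat.card G).factorization p :=
      (Nat.Prime.dvd_iff_one_le_factorization Fact.out Nat.card_pos.ne').1
        (hu ▸ orderOf_dvd_natCard u)
    have hb : ¬ 2 ≤ (Nat.card G).factorization p := fun h =>
      hsq ((Nat.Prime.pow_dvd_iff_le_factorization Fact.out Nat.card_pos.ne').2 h)
    omega
  have hcard : ∀ z : G, orderOf z = p →
      Nat.card (Subgroup.zpowers z) = p ^ (Nat.card G).factorization p := fun z hz => by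
    rw [Nat.card_zpowers, hz, hfac, pow_one]
  let Pu : Sylow p G := Sylow.ofCard _ (hcard u hu)
  let Py : Sylow p G := Sylow.ofCard _ (hcard y hy)
  obtain ⟨g, hg⟩ := MulAction.exists_smul_eq G Py Pu
  have hmem : g * y * g⁻¹ ∈ Subgroup.zpowers u := by
    have h : g * y * g⁻¹ ∈ ((g • Py : Sylow p G) : Subgroup G) := by
      rw [Sylow.smul_def, Sylow.pointwise_smul_def, Subgroup.mem_smul_pointwise_iff_exists]
      exact ⟨y, Subgroup.mem_zpowers y, rfl⟩
    rw [hg] at h
    exact h
  obtain ⟨k, hk⟩ := (isOfFinOrder_of_finite u).mem_powers_iff_mem_zpowers.2 hmem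
  have hk' : u ^ k = g * y * g⁻¹ := hk
  refine ⟨g, k, fun hd => ?_, hk'.symm⟩
  rw [← hu] at hd
  rw [orderOf_dvd_iff_pow_eq_one.1 hd, eq_comm, mul_inv_eq_one, mul_eq_left] at hk'
  rw [hk', orderOf_one] at hy
  exact (Fact.out : p.Prime).one_lt.ne hy

/-- The outer automorphism group has at most as many elements as there are candidates. -/
theorem card_out_le {p : ℕ} [Fact p.Prime] {u v : G} {ws : List G} {r s : ℕ}
    (hu : orderOf u = p) (hsq : ¬ p ^ 2 ∣ Nat.card G)
    (hgen : Subgroup.closure {x | x ∈ u :: v :: ws} = ⊤)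
    (hvu : v * u = u ^ r * v) (hwv : ∀ w ∈ ws, w * v = v ^ s * w)
    (hN : ∀ x : G, x * u = u ^ r * x →
      ∃ i : ℕ, x = u ^ i * v ∧ ∃ a : ℕ, u ^ a * x * (u ^ a)⁻¹ = v)
    (K : List ℕ) (hK : ∀ k, ¬ p ∣ k → ∃ l : ℕ, ∃ k' ∈ K, v ^ l * u ^ k * (v ^ l)⁻¹ = u ^ k')
    (W : List G) (hW : ∀ x : G, x * v = v ^ s * x → x ∈ W)
    (valid : List (ℕ × List G))
    (hbad : ∀ k ∈ K, ∀ xs : List G, xs.length = ws.length → (∀ x ∈ xs, x ∈ W) → (k, xs) ∈ valid ∨
      ∀ α : MulAut G, α u = u ^ k → α v = v → ws.map α = xs → False) :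
    Nat.card (Cfsg.Out G) ≤ valid.length := by
  classical
  have hnorm : ∀ α : MulAut G, ∃ β : MulAut G, QuotientGroup.mk β = (QuotientGroup.mk α : Cfsg.Out G) ∧
      ∃ c ∈ valid, β u = u ^ c.1 ∧ β v = v ∧ ws.map β = c.2 := by
    intro α
    have step : ∀ (β : MulAut G) (g : G),
        (QuotientGroup.mk (MulAut.conj g * β) : Cfsg.Out G) = QuotientGroup.mk β := fun β g => by
      rw [QuotientGroup.mk_mul, (QuotientGroup.eq_one_iff (N := Cfsg.Inn G) (MulAut.conj g)).2
        (MonoidHom.mem_range.2 ⟨g, rfl⟩), one_mul]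
    obtain ⟨g, k, hk, hg⟩ := exists_conj_zpowers hsq hu
      (show orderOf (α u) = p by rw [MulEquiv.orderOf_eq, hu])
    set β := MulAut.conj g * α with hβ
    have hβu : β u = u ^ k := hg
    have hr : β v * u = u ^ r * β v := by
      have hcop : Nat.Coprime k p :=
        ((Nat.Prime.coprime_iff_not_dvd Fact.out).2 hk).symm
      obtain ⟨j, hj⟩ : ∃ j : ℕ, u = (u ^ k) ^ j := by
        have h1 : (u ^ k) ∈ Subgroup.zpowers u := Subgroup.npow_mem_zpowers _ _
        obtain ⟨j, hj⟩ := exists_pow_eq_self_of_coprime (hu.symm ▸ hcop)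
        exact ⟨j, hj.symm⟩
      rw [hj, ← hβu, ← map_pow, ← map_mul, ← map_pow, ← map_mul]
      congr 1
      have hrep : ∀ n : ℕ, v * u ^ n = (u ^ r) ^ n * v := fun n => by
        induction n with
        | zero => simp
        | succ n ih => rw [pow_succ, ← mul_assoc, ih, mul_assoc, hvu, ← mul_assoc, ← pow_succ]
      rw [hrep, ← pow_mul, ← pow_mul, mul_comm r j]
    obtain ⟨i, hi, a, ha⟩ := hN _ hr
    set γ := MulAut.conj (u ^ a) * β with hγ
    have hγv : γ v = v := ha
    have hγu : γ u = u ^ k := by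
      show u ^ a * β u * (u ^ a)⁻¹ = u ^ k
      rw [hβu, ← pow_add, Nat.add_comm, pow_add, mul_inv_cancel_right]
    obtain ⟨l, k', hk', hl⟩ := hK k hk
    set δ := MulAut.conj (v ^ l) * γ with hδ
    have hδv : δ v = v := by
      show v ^ l * γ v * (v ^ l)⁻¹ = v
      rw [hγv, ← pow_succ, pow_succ', mul_inv_cancel_right]
    have hδu : δ u = u ^ k' := by
      show v ^ l * γ u * (v ^ l)⁻¹ = u ^ k'
      rw [hγu, hl]
    have hδw : ∀ x ∈ ws.map δ, x ∈ W := fun x hx => by
      obtain ⟨w, hw, rfl⟩ := List.mem_map.1 hx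
      exact hW _ (by rw [← hδv, ← map_mul, ← map_pow, ← map_mul, hwv w hw])
    refine ⟨δ, ?_, ?_⟩
    · rw [hδ, step, hγ, step, hβ, step]
    · rcases hbad k' hk' _ (List.length_map _) hδw with hv | hbad'
      · exact ⟨_, hv, hδu, hδv, rfl⟩
      · exact absurd rfl (fun _ : (1 : ℕ) = 1 => hbad' δ hδu hδv rfl)
  have hch : ∀ z : Cfsg.Out G, ∃ c ∈ valid, ∃ β : MulAut G,
      QuotientGroup.mk β = z ∧ β u = u ^ c.1 ∧ β v = v ∧ ws.map β = c.2 := fun z => by
    obtain ⟨α, rfl⟩ := QuotientGroup.mk_surjective z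
    obtain ⟨β, h1, c, hc, h2⟩ := hnorm α
    exact ⟨c, hc, β, h1, h2⟩
  choose c hc β hβ h1 h2 h3 using hch
  have hinj : Function.Injective fun z : Cfsg.Out G => (⟨c z, hc z⟩ : {x // x ∈ valid}) := by
    intro y z e
    have e' : c y = c z := congrArg Subtype.val e
    rw [← hβ y, ← hβ z]
    congr 1
    have heq : Set.EqOn (β y).toMonoidHom (β z).toMonoidHom {x | x ∈ u :: v :: ws} := by
      intro x hx
      rcases List.mem_cons.1 hx with rfl | hx
      · show β y x = β z x
        rw [h1, h1, e']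
      rcases List.mem_cons.1 hx with rfl | hx
      · show β y x = β z x
        rw [h2, h2]
      · exact List.map_inj_left.1 ((h3 y).trans ((congrArg Prod.snd e').trans (h3 z).symm)) x hx
    exact MulEquiv.ext fun x => MonoidHom.eqOn_closure heq (hgen.symm ▸ Subgroup.mem_top x)
  refine (Nat.card_le_card_of_injective _ hinj).trans ?_
  rw [Nat.card_eq_fintype_card, Fintype.card_of_subtype valid.toFinset (fun _ => List.mem_toFinset)]
  exact List.toFinset_card_le valid

/-- An automorphism that is not inner gives two classes. -/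
theorem two_le_card_out (α : MulAut G) (h : ∀ g : G, MulAut.conj g ≠ α) :
    2 ≤ Nat.card (Cfsg.Out G) := by
  by_contra hlt
  have h1 : Subsingleton (Cfsg.Out G) := Finite.card_le_one_iff_subsingleton.1 (by omega)
  obtain ⟨g, hg⟩ := (QuotientGroup.eq_one_iff α).1 (Subsingleton.elim (QuotientGroup.mk α : Cfsg.Out G) 1)
  exact h g hg

/-- There is at least one class. -/
theorem one_le_card_out : 1 ≤ Nat.card (Cfsg.Out G) := Nat.card_pos

end CfsgLib.MathieuOut
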