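import Cfsg.Agent.Lib.MathieuOut.Groups

/-!
# Outer automorphisms of the Mathieu groups of degree 22 and 12
-/

set_option autoImplicit false
set_option maxRecDepth 100000

namespace CfsgLib.MathieuOut

open Cfsg CfsgLib.Golay CfsgLib.M24Cert

open scoped Pointwise

/-- Conjugation by an element carrying the prime element to a power that no element of the group
reaches gives a second class. -/
theorem two_le_out {G : Subgroup (Equiv.Perm GolayPt)} (c : Cert) (hG : Cut G c.masks)
    (hu : memG c.masks c.u = true) (hplan : planB c.u c.planU = true) {k : ℕ}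
    (hgo : goA c.u (powL c.u k) c.masks [] c.planU [] = true) {n : List ℕ}
    (hn : m24B n = true) (hnu : eqB (compL n c.u) (compL (powL c.u k) n) = true)
    (hmask : ∀ m ∈ c.masks, ∃ m', (∀ g ∈ G, g • toSet m' = toSet m') ∧
      pL n • toSet m' = toSet m) :
    2 ≤ Nat.card (Cfsg.Out G) := by
  obtain ⟨hu1, hu2⟩ := hG.of_test hu
  obtain ⟨hn1, hn2⟩ := mem_M24_of_m24B hn
  have hmem : ∀ g ∈ G, pL n * g * (pL n)⁻¹ ∈ G := fun g hg =>
    hG.mem _ (mul_mem (mul_mem hn2 (hG.le hg)) (inv_mem hn2)) fun m hm => by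
      obtain ⟨m', h1, h2⟩ := hmask m hm
      rw [← h2, mul_smul, mul_smul, inv_smul_smul, h1 g hg]
  let f : G →* G :=
    { toFun := fun g => ⟨pL n * g.val * (pL n)⁻¹, hmem g.val g.2⟩
      map_one' := Subtype.ext (by simp)
      map_mul' := fun a b => Subtype.ext (by simp [mul_assoc]) }
  have hf : Function.Injective f := fun a b h =>
    Subtype.ext (mul_left_cancel (mul_right_cancel (congrArg Subtype.val h)))
  refine two_le_card_out (MulEquiv.ofBijective f ⟨hf, Finite.injective_iff_surjective.1 hf⟩)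
    fun g h => ?_
  have hval : g.val * pL c.u * g.val⁻¹ = pL c.u ^ k := by
    have e := congrArg (fun β : MulAut G => (β ⟨pL c.u, hu2⟩).val) h
    change g.val * pL c.u * g.val⁻¹ = pL n * pL c.u * (pL n)⁻¹ at e
    have e2 := congrArg pL (eqB_eq hnu)
    obtain ⟨hk1, hk2⟩ := pL_powL hu1 k
    rw [pL_compL hn1 hu1, pL_compL hk1 hn1, hk2] at e2
    rw [e, e2, mul_inv_cancel_right]
  obtain ⟨L, hL, -⟩ := transporters hG hu1 k hplan hgo (fun L hL => absurd hL List.not_mem_nil)
    g.2 (mul_inv_eq_iff_eq_mul.1 hval)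
  exact absurd hL List.not_mem_nil

/-- An element exchanging the two fixed points. -/
def swap22 : List ℕ :=
  [23, 10, 1, 16, 3, 12, 22, 11, 9, 18, 21, 15, 2, 6, 5, 14, 13, 19, 20, 17, 4, 7, 8, 0]

/-- An element exchanging the dodecad of squares with its complement. -/
def swap12 : List ℕ :=
  [15, 11, 23, 7, 5, 0, 21, 9, 14, 20, 16, 18, 10, 19, 3, 8, 22, 13, 17, 12, 4, 6, 1, 2]

theorem swap_facts : m24B swap22 = true ∧ m24B swap12 = true ∧
    eqB (compL swap22 m22Cert.u) (compL (powL m22Cert.u 2) swap22) = true ∧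
    eqB (compL swap12 m12Cert.u) (compL (powL m12Cert.u 2) swap12) = true ∧
    imgR swap22 8388608 = 1 ∧ imgR swap22 1 = 8388608 ∧
    imgR swap12 (16777215 ^^^ 340831) = 340831 := by
  refine ⟨?_, ?_, ?_, ?_, ?_, ?_, ?_⟩ <;> decide +kernel

theorem out_M22 : Nat.card (Cfsg.Out Cfsg.Spor.M22) = 2 := by
  refine le_antisymm out_M22_le (two_le_out (k := 2) (n := swap22) m22Cert m22_cut
    (by decide +kernel) (by decide +kernel) (by decide +kernel) swap_facts.1 swap_facts.2.2.1
    fun m hm => ?_)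
  have hv := (mem_M24_of_m24B swap_facts.1).1
  simp only [m22Cert, List.mem_cons, List.not_mem_nil, or_false] at hm
  rcases hm with rfl | rfl
  · exact ⟨1, fun g hg => m22_cut.inv g hg 1 (by simp), by
      rw [smul_toSet_imgF hv, ← imgR_eq, swap_facts.2.2.2.2.2.1]⟩
  · exact ⟨8388608, fun g hg => m22_cut.inv g hg 8388608 (by simp), by
      rw [smul_toSet_imgF hv, ← imgR_eq, swap_facts.2.2.2.2.1]⟩

theorem out_M12 : Nat.card (Cfsg.Out Cfsg.Spor.M12) = 2 := by
  refine le_antisymm out_M12_le (two_le_out (k := 2) (n := swap12) m12Cert m12_cut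
    (by decide +kernel) (by decide +kernel) (by decide +kernel) swap_facts.2.1 swap_facts.2.2.2.1
    fun m hm => ?_)
  have hv := (mem_M24_of_m24B swap_facts.2.1).1
  simp only [m12Cert, List.mem_cons, List.not_mem_nil, or_false] at hm
  subst hm
  refine ⟨16777215 ^^^ 340831, fun g hg => ?_, by
    rw [smul_toSet_imgF hv, ← imgR_eq, swap_facts.2.2.2.2.2.2]⟩
  rw [toSet_xor, Finset.smul_finset_symmDiff, m12_cut.inv g hg 340831 (by simp),
    invOn_full Cfsg.Spor.M12 [] g hg (by simp)]

end CfsgLib.MathieuOut
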