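import Cfsg.Agent.Lib.MathieuOut.Concrete
import Cfsg.Agent.Lib.Golay.Spor
import Cfsg.Agent.Lib.MathieuOut.M24Data
import Cfsg.Agent.Lib.MathieuOut.M23Data
import Cfsg.Agent.Lib.MathieuOut.M22Data
import Cfsg.Agent.Lib.MathieuOut.M12Data
import Cfsg.Agent.Lib.MathieuOut.M11Data

/-!
# The bounds on the outer automorphism groups of the five Mathieu groups
-/

set_option autoImplicit false
set_option maxRecDepth 100000

namespace CfsgLib.MathieuOut

open Cfsg CfsgLib.Golay CfsgLib.M24Cert

open scoped Pointwise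

theorem smul_single_iff (g : Equiv.Perm GolayPt) {q : GolayPt} {n : ℕ} (hn : toSet n = {q}) :
    g • toSet n = toSet n ↔ g • q = q := by
  rw [hn, Finset.smul_finset_singleton, Finset.singleton_inj]

theorem toSet_last : toSet 8388608 = {(none : GolayPt)} := by decide +kernel

theorem toSet_zeroPt : toSet 1 = {(some 0 : GolayPt)} := by decide +kernel

theorem m24_cut : Cut M24 [] :=
  ⟨le_rfl, fun _ _ m hm => absurd hm List.not_mem_nil, fun _ hg _ => hg⟩

theorem m23_cut : Cut Cfsg.Spor.M23 [8388608] := by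
  refine ⟨inf_le_left, fun g hg m hm => ?_, fun g hg h => ⟨hg, ?_⟩⟩
  · rw [List.mem_singleton.1 hm]
    exact (smul_single_iff g toSet_last).2 (MulAction.mem_stabilizer_iff.1 hg.2)
  · exact MulAction.mem_stabilizer_iff.2
      ((smul_single_iff g toSet_last).1 (h _ List.mem_cons_self))

theorem m22_cut : Cut Cfsg.Spor.M22 [8388608, 1] := by
  refine ⟨inf_le_left.trans inf_le_left, fun g hg m hm => ?_, fun g hg h => ⟨⟨hg, ?_⟩, ?_⟩⟩
  · simp only [List.mem_cons, List.not_mem_nil, or_false] at hm
    rcases hm with rfl | rfl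
    · exact (smul_single_iff g toSet_last).2 (MulAction.mem_stabilizer_iff.1 hg.1.2)
    · exact (smul_single_iff g toSet_zeroPt).2 (MulAction.mem_stabilizer_iff.1 hg.2)
  · exact MulAction.mem_stabilizer_iff.2
      ((smul_single_iff g toSet_last).1 (h _ List.mem_cons_self))
  · exact MulAction.mem_stabilizer_iff.2
      ((smul_single_iff g toSet_zeroPt).1 (h _ (by simp)))

theorem m12_cut : Cut Cfsg.Spor.M12 [340831] := by
  refine ⟨inf_le_left, fun g hg m hm => ?_, fun g hg h => ?_⟩
  · rw [List.mem_singleton.1 hm]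
    exact (mem_M12.1 hg).2
  · exact mem_M12.2 ⟨hg, h _ List.mem_cons_self⟩

theorem m11_cut : Cut Cfsg.Spor.M11 [340831, 1] := by
  refine ⟨inf_le_left.trans inf_le_left, fun g hg m hm => ?_, fun g hg h => ⟨?_, ?_⟩⟩
  · simp only [List.mem_cons, List.not_mem_nil, or_false] at hm
    rcases hm with rfl | rfl
    · exact (mem_M12.1 hg.1).2
    · exact (smul_single_iff g toSet_zeroPt).2 (MulAction.mem_stabilizer_iff.1 hg.2)
  · exact mem_M12.2 ⟨hg, h _ List.mem_cons_self⟩
  · exact MulAction.mem_stabilizer_iff.2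
      ((smul_single_iff g toSet_zeroPt).1 (h _ (by simp)))

/-- The bound from a certificate with its chain. -/
theorem bound_of {G : Subgroup (Equiv.Perm GolayPt)} (c : Cert) (hG : Cut G c.masks)
    (hp : c.p.Prime) {steps : List Step} {ls : List Level}
    (hchain : chainCheck 24 (c.u :: c.v :: c.ws) steps [] ls = true)
    (hcard : Nat.card G = (ls.map fun l => l.imgs.length).prod)
    (hsq : ¬ c.p ^ 2 ∣ Nat.card G)
    (hshape : c.shapeB = true) (hsearch : c.searchB = true) :
    Nat.card (Cfsg.Out G) ≤ c.valid.length := by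
  haveI := Fact.mk hp
  have h := hshape
  simp only [Cert.shapeB, Bool.and_eq_true, allB_iff, anyB_iff, memB_iff, Bool.not_eq_true'] at h
  obtain ⟨⟨⟨⟨⟨⟨⟨⟨⟨⟨⟨⟨⟨hu, hv⟩, hw⟩, -⟩, -⟩, -⟩, -⟩, -⟩, -⟩, -⟩, -⟩, -⟩, -⟩, -⟩ := h
  refine c.card_out_le hG hsq (fun H hH => le_of_gens hchain (fun L hL => (hG.of_test ?_).2)
    hcard.le H hH) hshape hsearch
  simp only [List.mem_cons] at hL
  rcases hL with rfl | rfl | hL
  exacts [hu, hv, hw L hL]

theorem out_M24_le : Nat.card (Cfsg.Out M24) ≤ 1 :=
  bound_of m24Cert m24_cut (by norm_num [m24Cert]) (ls := m24Levels) (steps := m24Steps)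
    (by decide +kernel) (by rw [card_M24]; decide +kernel)
    (by rw [card_M24]; norm_num [m24Cert]) (by decide +kernel) (by decide +kernel)

theorem out_M23_le : Nat.card (Cfsg.Out Cfsg.Spor.M23) ≤ 1 :=
  bound_of m23Cert m23_cut (by norm_num [m23Cert]) (ls := m23Levels) (steps := m23Steps)
    (by decide +kernel) (by rw [card_sporM23]; decide +kernel)
    (by rw [card_sporM23]; norm_num [m23Cert]) (by decide +kernel) (by decide +kernel)

theorem out_M22_le : Nat.card (Cfsg.Out Cfsg.Spor.M22) ≤ 2 :=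
  bound_of m22Cert m22_cut (by norm_num [m22Cert]) (ls := m22Levels) (steps := m22Steps)
    (by decide +kernel) (by rw [card_sporM22]; decide +kernel)
    (by rw [card_sporM22]; norm_num [m22Cert]) (by decide +kernel) (by decide +kernel)

theorem out_M12_le : Nat.card (Cfsg.Out Cfsg.Spor.M12) ≤ 2 :=
  bound_of m12Cert m12_cut (by norm_num [m12Cert]) (ls := m12Levels) (steps := m12Steps)
    (by decide +kernel) (by rw [card_M12]; decide +kernel)
    (by rw [card_M12]; norm_num [m12Cert]) (by decide +kernel) (by decide +kernel)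

theorem out_M11_le : Nat.card (Cfsg.Out Cfsg.Spor.M11) ≤ 1 :=
  bound_of m11Cert m11_cut (by norm_num [m11Cert]) (ls := m11Levels) (steps := m11Steps)
    (by decide +kernel) (by rw [card_M11]; decide +kernel)
    (by rw [card_M11]; norm_num [m11Cert]) (by decide +kernel) (by decide +kernel)

end CfsgLib.MathieuOut
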