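import Cfsg.Agent.Lib.MathieuOut.LocalKill
import Cfsg.Agent.Lib.MathieuOut.Groups

/-!
# The multiplier of M11
-/

set_option autoImplicit false
set_option maxRecDepth 100000

namespace CfsgLib.MathieuOut.Mult

open Cfsg CfsgLib.Golay CfsgLib.M24Cert Subgroup

/-- An element of order 3. -/
def threeA : List ℕ := [0, 6, 2, 12, 8, 7, 16, 19, 13, 3, 10, 23, 9, 4, 11, 15, 1, 17, 18, 5, 21, 22, 20, 14]

/-- An element of order 3 commuting with it. -/
def threeB : List ℕ := [0, 8, 2, 16, 3, 7, 13, 19, 12, 6, 15, 11, 1, 9, 14, 17, 4, 10, 18, 5, 22, 20, 21, 23]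

/-- An element centralising the first and inverting the second. -/
def threeN : List ℕ := [0, 4, 18, 9, 6, 22, 8, 20, 16, 12, 10, 14, 3, 1, 23, 17, 13, 15, 2, 21, 19, 5, 7, 11]

/-- An element of order 8. -/
def eightA : List ℕ := [0, 12, 18, 3, 6, 11, 8, 19, 13, 16, 14, 10, 1, 2, 20, 23, 4, 7, 9, 5, 17, 15, 21, 22]

/-- An involution cubing it. -/
def twoB : List ℕ := [0, 12, 9, 3, 8, 10, 18, 20, 4, 2, 5, 17, 1, 13, 14, 22, 16, 11, 6, 19, 7, 21, 15, 23]

theorem m11_checks :
    allB (fun L => memG [340831, 1] L) [threeA, threeB, threeN, eightA, twoB] = true ∧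
    eqB (powL threeA 3) (List.range 24) = true ∧ eqB (powL threeB 3) (List.range 24) = true ∧
    eqB (compL threeA threeB) (compL threeB threeA) = true ∧
    eqB (compL threeN threeA) (compL threeA threeN) = true ∧
    eqB (compL threeN threeB) (compL (powL threeB 2) threeN) = true ∧
    (threeA ≠ List.range 24 ∧ (∀ i ∈ [0, 1, 2], threeB ≠ powL threeA i)) ∧
    eqB (powL eightA 8) (List.range 24) = true ∧ powL eightA 4 ≠ List.range 24 ∧
    eqB (powL twoB 2) (List.range 24) = true ∧ twoB ≠ List.range 24 ∧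
    eqB (compL twoB eightA) (compL (powL eightA 3) twoB) = true ∧
    (∀ i ∈ List.range 8, twoB ≠ powL eightA i) := by
  refine ⟨?_, ?_, ?_, ?_, ?_, ?_, ?_, ?_, ?_, ?_, ?_, ?_, ?_⟩ <;> decide +kernel

theorem mul_dvd_card {G : Type*} [Group G] [Finite G] {q : ℕ} [Fact q.Prime] {a b : G}
    (hb : b ^ q = 1) (hn : b * a * b⁻¹ ∈ zpowers a) (hlow : b ∉ zpowers a) :
    orderOf a * q ∣ Nat.card (closure {a, b} : Subgroup G) := by
  set P : Subgroup G := closure {a, b}
  have ha' : a ∈ P := subset_closure (by simp)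
  have hb' : b ∈ P := subset_closure (by simp)
  have hle : zpowers a ≤ P := zpowers_le.mpr ha'
  have hbn : b ∈ Subgroup.normalizer (zpowers a : Set G) := by
    refine Subgroup.mem_normalizer_iff.mpr fun w => ⟨fun hw => ?_, fun hw => ?_⟩
    · obtain ⟨k, rfl⟩ := mem_zpowers_iff.mp hw
      rw [← conj_zpow]
      exact zpow_mem hn k
    · have key : ∀ (i : ℕ) (u : G), u ∈ zpowers a → b ^ i * u * (b ^ i)⁻¹ ∈ zpowers a := by
        intro i
        induction i with
        | zero => intro u hu; simpa using hu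
        | succ i ih =>
          intro u hu
          obtain ⟨k, hk⟩ := mem_zpowers_iff.mp (ih u hu)
          rw [show b ^ (i + 1) * u * (b ^ (i + 1))⁻¹ = b * (b ^ i * u * (b ^ i)⁻¹) * b⁻¹ by
            rw [pow_succ']; group, ← hk, ← conj_zpow]
          exact zpow_mem hn k
      have h := key (q - 1) _ hw
      have e : b ^ (q - 1) * b = 1 := by
        rw [← pow_succ, Nat.sub_add_cancel (Fact.out : q.Prime).one_le, hb]
      rw [eq_inv_of_mul_eq_one_left e, inv_inv] at h
      simpa [mul_assoc] using h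
  have hPn : P ≤ Subgroup.normalizer (zpowers a : Set G) := by
    rw [closure_le]
    rintro x (rfl | rfl)
    · exact Subgroup.le_normalizer (mem_zpowers x)
    · exact hbn
  let Q : Subgroup P := (zpowers a).subgroupOf P
  have : Q.Normal := (Subgroup.normal_subgroupOf_iff_le_normalizer hle).mpr hPn
  have hne : (QuotientGroup.mk' Q) ⟨b, hb'⟩ ≠ 1 := fun h =>
    hlow (mem_subgroupOf.mp ((QuotientGroup.eq_one_iff (N := Q) _).mp h))
  have hord : orderOf ((QuotientGroup.mk' Q) ⟨b, hb'⟩) = q := by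
    refine orderOf_eq_prime ?_ hne
    rw [← map_pow, show (⟨b, hb'⟩ : P) ^ q = 1 from Subtype.ext hb, map_one]
  have h1 : q ∣ Q.index := by
    rw [Subgroup.index_eq_card, ← hord]
    exact orderOf_dvd_natCard _
  rw [← Q.card_mul_index, Nat.card_congr (Subgroup.subgroupOfEquivOfLe hle).toEquiv, Nat.card_zpowers]
  exact mul_dvd_mul_left _ h1

theorem m11_trivial_multiplier : Cfsg.HasCyclicSchurMultiplier ↥Cfsg.Spor.M11 1 := by
  refine CfsgLib.Known.SL2Mult.hasTrivial fun E _ _ σ hσ => ?_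
  obtain ⟨hmem, ha3, hb3, hab, hna, hnb, ⟨hane, hbne⟩, hA8, hA4, hB2, hBne, hBA, hBnot⟩ := m11_checks
  rw [allB_iff] at hmem
  have V : ∀ L ∈ [threeA, threeB, threeN, eightA, twoB], validL 24 L = true ∧ pL L ∈ Cfsg.Spor.M11 :=
    fun L hL => m11_cut.of_test (hmem L hL)
  obtain ⟨va, ma⟩ := V threeA (by simp)
  obtain ⟨vb, mb⟩ := V threeB (by simp)
  obtain ⟨vn, mn⟩ := V threeN (by simp)
  obtain ⟨vA, mA⟩ := V eightA (by simp)
  obtain ⟨vB, mB⟩ := V twoB (by simp)
  let a : Cfsg.Spor.M11 := ⟨_, ma⟩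
  let b : Cfsg.Spor.M11 := ⟨_, mb⟩
  let n : Cfsg.Spor.M11 := ⟨_, mn⟩
  let A : Cfsg.Spor.M11 := ⟨_, mA⟩
  let B : Cfsg.Spor.M11 := ⟨_, mB⟩
  have mulEq : ∀ {K L M N : List ℕ}, validL 24 K = true → validL 24 L = true → validL 24 M = true →
      validL 24 N = true → eqB (compL K L) (compL M N) = true → pL K * pL L = pL M * pL N :=
    fun hK hL hM hN h => by
      have := congrArg pL (eqB_eq h)
      rwa [pL_compL hK hL, pL_compL hM hN] at this
  have powEq : ∀ {K : List ℕ} {k : ℕ}, validL 24 K = true → eqB (powL K k) (List.range 24) = true →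
      pL K ^ k = 1 := fun hK h => by rw [← (pL_powL hK _).2, eqB_eq h, pL_range]
  have ea : a ^ 3 = 1 := Subtype.ext (powEq va ha3)
  have eb : b ^ 3 = 1 := Subtype.ext (powEq vb hb3)
  have oa : orderOf a = 3 := by
    have : Fact (3 : ℕ).Prime := ⟨by norm_num⟩
    refine orderOf_eq_prime ea fun h => hane (pL_inj va validL_range24 ?_)
    rw [pL_range]
    exact congrArg Subtype.val h
  have eab : a * b = b * a := Subtype.ext (mulEq va vb vb va hab)
  have ena : n * a * n⁻¹ = a := mul_inv_eq_iff_eq_mul.mpr (Subtype.ext (mulEq vn va va vn hna))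
  have enb : n * b * n⁻¹ = b⁻¹ := by
    refine mul_inv_eq_iff_eq_mul.mpr ?_
    have h : n * b = b ^ 2 * n := Subtype.ext (by
      have h := mulEq vn vb (pL_powL vb 2).1 vn hnb
      rwa [(pL_powL vb 2).2] at h)
    rw [h, eq_inv_of_mul_eq_one_left (show b ^ 2 * b = 1 by rw [← pow_succ]; exact eb)]
  have oA : orderOf A = 8 := by
    have : Fact (2 : ℕ).Prime := ⟨by norm_num⟩
    refine orderOf_eq_prime_pow (p := 2) (n := 2) (fun h => hA4 (pL_inj (pL_powL vA 4).1 validL_range24 ?_))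
      (Subtype.ext (powEq vA hA8))
    rw [pL_range, (pL_powL vA 4).2]
    exact congrArg Subtype.val h
  have eB : B ^ 2 = 1 := Subtype.ext (powEq vB hB2)
  have eBA : B * A * B⁻¹ = A ^ 3 := mul_inv_eq_iff_eq_mul.mpr (Subtype.ext (by
    have h := mulEq vB vA (pL_powL vA 3).1 vB hBA
    rwa [(pL_powL vA 3).2] at h))
  refine CfsgLib.Schur.LocalKill.ker_eq_one_of_preimage σ hσ fun p hp hdvd => ?_
  rw [card_M11] at hdvd
  have notin : ∀ {L K : List ℕ} {x y : Cfsg.Spor.M11}, validL 24 L = true → validL 24 K = true →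
      x.1 = pL K → y.1 = pL L → ∀ d, orderOf x = d → (∀ i ∈ List.range d, L ≠ powL K i) →
      y ∉ zpowers x := by
    intro L K x y hL hK hx hy d hd hne hmem'
    classical
    obtain ⟨i, hi, e⟩ := Finset.mem_image.mp ((mem_zpowers_iff_mem_range_orderOf).mp hmem')
    rw [hd, Finset.mem_range] at hi
    refine hne i (List.mem_range.mpr hi) (pL_inj hL (pL_powL hK i).1 ?_)
    rw [(pL_powL hK i).2, ← hy, ← hx, ← e]
    rfl
  by_cases h2 : p = 2
  · subst h2
    have h16 := mul_dvd_card (q := 2) (a := A) (b := B) eB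
      (eBA ▸ pow_mem (mem_zpowers A) 3) (notin vB vA rfl rfl 8 oA hBnot)
    rw [oA] at h16
    refine ⟨closure {A, B}, fun h => ?_,
      CfsgLib.Schur.LocalKill.free_semidihedral σ hσ.1 hσ.2.1 oA eB eBA rfl⟩
    have h3 := Nat.mul_dvd_mul h16 h
    rw [Subgroup.card_mul_index, card_M11] at h3
    norm_num at h3
  by_cases h3 : p = 3
  · subst h3
    have hconj : b * a * b⁻¹ = a := by rw [← eab, mul_inv_cancel_right]
    have h9 := mul_dvd_card (q := 3) (a := a) (b := b) eb (hconj.symm ▸ mem_zpowers a)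
      (notin vb va rfl rfl 3 oa fun i hi => hbne i (by
        rw [List.mem_range] at hi
        interval_cases i <;> simp))
    rw [oa] at h9
    refine ⟨closure {a, b}, fun h => ?_,
      CfsgLib.Schur.LocalKill.free_inverted σ hσ.1 hσ.2.1 ea eab ena enb rfl⟩
    have h4 := Nat.mul_dvd_mul h9 h
    rw [Subgroup.card_mul_index, card_M11] at h4
    norm_num at h4
  have hfact : p = 5 ∨ p = 11 := by
    have hp' := hp.out
    rw [show (7920 : ℕ) = 2 ^ 4 * 3 ^ 2 * 5 * 11 by norm_num] at hdvd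
    rcases hp'.dvd_mul.mp hdvd with h | h
    · rcases hp'.dvd_mul.mp h with h | h
      · rcases hp'.dvd_mul.mp h with h | h
        · exact absurd ((Nat.prime_dvd_prime_iff_eq hp' Nat.prime_two).mp (hp'.dvd_of_dvd_pow h)) h2
        · exact absurd ((Nat.prime_dvd_prime_iff_eq hp' Nat.prime_three).mp (hp'.dvd_of_dvd_pow h)) h3
      · exact Or.inl ((Nat.prime_dvd_prime_iff_eq hp' (by norm_num)).mp h)
    · exact Or.inr ((Nat.prime_dvd_prime_iff_eq hp' (by norm_num)).mp h)
  obtain ⟨g, hg⟩ := exists_prime_orderOf_dvd_card' (G := Cfsg.Spor.M11) p (by rw [card_M11]; exact hdvd)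
  refine ⟨zpowers g, fun h => ?_, CfsgLib.Schur.LocalKill.free_cyclic σ hσ.2.1 _⟩
  have h5 : p * p ∣ 7920 := by
    rw [← card_M11, ← (zpowers g).card_mul_index, Nat.card_zpowers, hg]
    exact mul_dvd_mul_left _ h
  rcases hfact with rfl | rfl <;> norm_num at h5

end CfsgLib.MathieuOut.Mult
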