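import Cfsg.Agent.Lib.MathieuOut.Search
import Cfsg.Agent.Lib.MathieuOut.Abstract

/-!
# The checks bounding the outer automorphism group of a group on 24 points
-/

set_option autoImplicit false

namespace CfsgLib.MathieuOut

open Cfsg CfsgLib.Golay CfsgLib.M24Cert

open scoped Pointwise

/-- A power of a permutation list. -/
noncomputable def powL (A : List ℕ) (k : ℕ) : List ℕ :=
  Nat.rec (motive := fun _ => List ℕ) (List.range 24) (fun _ ih => compL A ih) k

/-- A member of a list of lists, the identity beyond. -/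
noncomputable def nthL (gens : List (List ℕ)) : ℕ → List ℕ :=
  List.rec (motive := fun _ => ℕ → List ℕ) (fun _ => List.range 24)
    (fun a _ ih i => cond (Nat.beq i 0) a (ih (i - 1))) gens

/-- The value of a word in lists. -/
noncomputable def evalL (gens : List (List ℕ)) (word : List ℕ) : List ℕ :=
  List.rec (motive := fun _ => List ℕ) (List.range 24)
    (fun g _ ih => compL (nthL gens g) ih) word

/-- All tuples from a list pass. -/
noncomputable def allTuples (l : List (List ℕ)) (P : List (List ℕ) → Bool) (n : ℕ) : Bool :=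
  Nat.rec (motive := fun _ => (List (List ℕ) → Bool) → Bool) (fun Q => Q [])
    (fun _ ih Q => allB (fun x => ih fun xs => Q (x :: xs)) l) n P

/-- Equality of lists of lists. -/
noncomputable def eqLL (l : List (List ℕ)) : List (List ℕ) → Bool :=
  List.rec (motive := fun _ => List (List ℕ) → Bool)
    (fun m => List.rec (motive := fun _ => Bool) true (fun _ _ _ => false) m)
    (fun a _ ih m => List.rec (motive := fun _ => Bool) false (fun b m' _ => eqB a b && ih m') m) l

/-- The data of the certificate. -/
structure Cert where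
  /-- The element of prime order. -/
  u : List ℕ
  /-- An element of its normaliser. -/
  v : List ℕ
  /-- Elements normalising the latter. -/
  ws : List (List ℕ)
  /-- The prime. -/
  p : ℕ
  /-- The power to which the second element conjugates the first. -/
  r : ℕ
  /-- The power to which the third element conjugates the second. -/
  s : ℕ
  /-- Masks invariant under the group. -/
  masks : List ℕ
  /-- The search plan along the cycles of the first element. -/
  planU : List (List ℕ × List ℕ)
  /-- The search plan along the cycles of the second element. -/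
  planV : List (List ℕ × List ℕ)
  /-- The transporters for the first element, with their exponents. -/
  nList : List (List ℕ × ℕ × ℕ)
  /-- The exponents up to conjugation, each with its witness. -/
  kList : List (ℕ × ℕ)
  /-- The representatives of the exponents. -/
  reps : List ℕ
  /-- The transporters for the second element. -/
  wList : List (List ℕ)
  /-- The candidates left. -/
  valid : List (ℕ × List (List ℕ))
  /-- The other candidates with separating words. -/
  bad : List (ℕ × List (List ℕ) × List ℕ)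

/-- The membership test of a group cut out by masks. -/
noncomputable def memG (masks : List ℕ) (L : List ℕ) : Bool :=
  m24B L && allB (fun m => Nat.beq (imgR L m) m) masks

/-- The checks on the elements and the lists. -/
noncomputable def Cert.shapeB (c : Cert) : Bool :=
  memG c.masks c.u && memG c.masks c.v && allB (fun L => memG c.masks L) c.ws &&
    !(eqB c.u (List.range 24)) && eqB (powL c.u c.p) (List.range 24) &&
    eqB (compL c.v c.u) (compL (powL c.u c.r) c.v) &&
    allB (fun L => eqB (compL L c.v) (compL (powL c.v c.s) L)) c.ws &&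
    planB c.u c.planU && planB c.v c.planV &&
    allB (fun e => memG c.masks e.1 && eqB e.1 (compL (powL c.u e.2.1) c.v) &&
      eqB (compL (powL c.u e.2.2) e.1) (compL c.v (powL c.u e.2.2))) c.nList &&
    allLt (fun k => Nat.beq k 0 ||
      anyB (fun e => eqB (compL (powL c.v e.2) (powL c.u k)) (compL (powL c.u e.1) (powL c.v e.2)))
        c.kList) c.p &&
    allB (fun e => memB e.1 c.reps) c.kList &&
    allB (fun L => memG c.masks L) c.wList &&
    allB (fun k => allTuples c.wList (fun xs =>
      anyB (fun e => Nat.beq e.1 k && eqLL e.2 xs) c.valid ||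
      anyB (fun e => Nat.beq e.1 k && eqLL e.2.1 xs &&
        eqB (evalL (c.u :: c.v :: c.ws) e.2.2) (List.range 24) &&
        !(eqB (evalL (powL c.u k :: c.v :: xs) e.2.2) (List.range 24))) c.bad) c.ws.length) c.reps

/-- The two searches. -/
noncomputable def Cert.searchB (c : Cert) : Bool :=
  goA c.u (powL c.u c.r) c.masks (c.nList.map (·.1)) c.planU [] &&
    goA c.v (powL c.v c.s) c.masks c.wList c.planV []

/-- The group is cut out by the masks. -/
structure Cut (G : Subgroup (Equiv.Perm GolayPt)) (masks : List ℕ) : Prop where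
  le : G ≤ M24
  inv : ∀ g ∈ G, ∀ m ∈ masks, g • toSet m = toSet m
  mem : ∀ g ∈ M24, (∀ m ∈ masks, g • toSet m = toSet m) → g ∈ G

theorem Cut.of_test {G : Subgroup (Equiv.Perm GolayPt)} {masks : List ℕ} (hG : Cut G masks)
    {L : List ℕ} (h : memG masks L = true) : validL 24 L = true ∧ pL L ∈ G := by
  simp only [memG, Bool.and_eq_true, allB_iff] at h
  obtain ⟨hv, hm⟩ := mem_M24_of_m24B h.1
  refine ⟨hv, hG.mem _ hm fun m hmm => ?_⟩
  rw [smul_toSet_imgF hv, ← imgR_eq, Nat.eq_of_beq_eq_true (h.2 m hmm)]

theorem validL_range24 : validL 24 (List.range 24) = true := by decide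

theorem pL_powL {A : List ℕ} (hA : validL 24 A = true) :
    ∀ k, validL 24 (powL A k) = true ∧ pL (powL A k) = pL A ^ k
  | 0 => ⟨validL_range24, by rw [pow_zero]; exact pL_range⟩
  | k + 1 => by
    obtain ⟨h1, h2⟩ := pL_powL hA k
    show validL 24 (compL A (powL A k)) = true ∧ pL (compL A (powL A k)) = _
    exact ⟨validL_compL hA h1, by rw [pL_compL hA h1, h2, pow_succ']⟩

/-- The value of a word in group elements. -/
def evalG {M : Type*} [Monoid M] (gens : List M) : List ℕ → M
  | [] => 1
  | g :: word => gens.getD g 1 * evalG gens word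

theorem map_evalG {M N : Type*} [Monoid M] [Monoid N] (f : M →* N) (gens : List M) :
    ∀ word, f (evalG gens word) = evalG (gens.map f) word
  | [] => map_one f
  | g :: word => by
    rw [evalG, evalG, map_mul, map_evalG f gens word]
    congr 1
    conv_rhs => rw [← map_one f, List.getD_map]

theorem pL_nthL : ∀ {gens : List (List ℕ)}, (∀ A ∈ gens, validL 24 A = true) → ∀ g,
    validL 24 (nthL gens g) = true ∧ pL (nthL gens g) = (gens.map pL).getD g 1
  | [], _, g => ⟨validL_range24, by
    rw [show nthL [] g = List.range 24 from rfl, pL_range]; simp⟩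
  | A :: gens, h, 0 => ⟨h A List.mem_cons_self, by
    rw [show nthL (A :: gens) 0 = A from rfl]; simp⟩
  | A :: gens, h, g + 1 => by
    obtain ⟨h1, h2⟩ := pL_nthL (gens := gens) (fun B hB => h B (List.mem_cons_of_mem _ hB)) g
    rw [show nthL (A :: gens) (g + 1) = nthL gens g from rfl]
    exact ⟨h1, by rw [h2]; simp⟩

theorem pL_evalL {gens : List (List ℕ)} (hg : ∀ A ∈ gens, validL 24 A = true) :
    ∀ word, validL 24 (evalL gens word) = true ∧
      pL (evalL gens word) = evalG (gens.map pL) word
  | [] => ⟨validL_range24, pL_range⟩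
  | g :: word => by
    obtain ⟨h1, h2⟩ := pL_evalL hg word
    obtain ⟨h3, h4⟩ := pL_nthL hg g
    show validL 24 (compL (nthL gens g) (evalL gens word)) = true ∧
      pL (compL (nthL gens g) (evalL gens word)) = _
    exact ⟨validL_compL h3 h1, by rw [pL_compL h3 h1, h2, h4, evalG]⟩

theorem allTuples_spec {l : List (List ℕ)} : ∀ {n : ℕ} {P : List (List ℕ) → Bool},
    allTuples l P n = true → ∀ xs : List (List ℕ), xs.length = n → (∀ x ∈ xs, x ∈ l) → P xs = true
  | 0, P, h, xs, hl, _ => by rw [List.length_eq_zero_iff.1 hl]; exact h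
  | n + 1, P, h, [], hl, _ => by simp at hl
  | n + 1, P, h, x :: xs, hl, hx => by
    have h' : allB (fun x => allTuples l (fun xs => P (x :: xs)) n) l = true := h
    exact allTuples_spec (allB_iff.1 h' x (hx x List.mem_cons_self)) xs (by simpa using hl)
      fun y hy => hx y (List.mem_cons_of_mem _ hy)

theorem eqLL_eq : ∀ {l m : List (List ℕ)}, eqLL l m = true → l = m
  | [], [], _ => rfl
  | [], _ :: _, h => Bool.noConfusion h
  | _ :: _, [], h => Bool.noConfusion h
  | a :: l, b :: m, h => by
    have h' : (eqB a b && eqLL l m) = true := h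
    simp only [Bool.and_eq_true] at h'
    rw [eqB_eq h'.1, eqLL_eq h'.2]

theorem eqB_refl : ∀ l : List ℕ, eqB l l = true
  | [] => rfl
  | a :: l => by
    show (Nat.beq a a && eqB l l) = true
    rw [Nat.beq_refl, eqB_refl l]
    rfl

/-- The transporters found by a search. -/
theorem transporters {G : Subgroup (Equiv.Perm GolayPt)} {masks : List ℕ} (hG : Cut G masks)
    {T : List ℕ} (hT : validL 24 T = true) (e : ℕ) {E : List (List ℕ)}
    {plan : List (List ℕ × List ℕ)} (hplan : planB T plan = true)
    (hgo : goA T (powL T e) masks E plan [] = true) (hE : ∀ L ∈ E, validL 24 L = true)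
    {x : Equiv.Perm GolayPt} (hx : x ∈ G) (hxT : x * pL T = pL T ^ e * x) :
    ∃ L ∈ E, x = pL L := by
  obtain ⟨hTe, hTe'⟩ := pL_powL hT e
  refine goA_spec (hG.le hx) hT hTe (fun i hi b hb hib => ?_) (hG.inv x hx) hplan hgo hE
    fun p hp => absurd hp List.not_mem_nil
  have h := congrArg (fun f : Equiv.Perm GolayPt => f (pt i)) hxT
  simp only [Equiv.Perm.mul_apply] at h
  rw [pL_pt hT hi, ← getR_eq, hib, ← hTe', pL_pt hTe hb, ← getR_eq] at h
  exact h

/-- The bound given by a certificate. -/
theorem Cert.card_out_le {G : Subgroup (Equiv.Perm GolayPt)} (c : Cert) (hG : Cut G c.masks)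
    [Fact c.p.Prime] (hsq : ¬ c.p ^ 2 ∣ Nat.card G)
    (hgen : ∀ H : Subgroup (Equiv.Perm GolayPt), (∀ L ∈ c.u :: c.v :: c.ws, pL L ∈ H) → G ≤ H)
    (hshape : c.shapeB = true) (hsearch : c.searchB = true) :
    Nat.card (Cfsg.Out G) ≤ c.valid.length := by
  simp only [Cert.shapeB, Bool.and_eq_true, allB_iff, anyB_iff, memB_iff, Bool.not_eq_true'] at hshape
  obtain ⟨⟨⟨⟨⟨⟨⟨⟨⟨⟨⟨⟨⟨hu, hv⟩, hw⟩, hune⟩, hup⟩, hvu⟩, hwv⟩, hpu⟩, hpv⟩, hn⟩, hk⟩, hreps⟩, hwl⟩,
    hcand⟩ := hshape
  simp only [Cert.searchB, Bool.and_eq_true] at hsearch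
  obtain ⟨hu1, hu2⟩ := hG.of_test hu
  obtain ⟨hv1, hv2⟩ := hG.of_test hv
  let U : G := ⟨pL c.u, hu2⟩
  let V : G := ⟨pL c.v, hv2⟩
  let Wg : List G := c.ws.attach.map fun L => ⟨pL L.1, (hG.of_test (hw L.1 L.2)).2⟩
  have hWg : Wg.map G.subtype = c.ws.map pL := by
    simp only [Wg, List.map_map]
    exact List.attach_map_val (f := pL)
  have hU : orderOf U = c.p := by
    rw [← Subgroup.orderOf_coe]
    refine orderOf_eq_prime ?_ fun h => ?_
    · rw [← (pL_powL hu1 c.p).2, eqB_eq hup, pL_range]
    · have e : c.u = List.range 24 := pL_inj hu1 validL_range24 (h.trans pL_range.symm)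
      rw [e, eqB_refl] at hune
      exact Bool.noConfusion hune
  have pw : ∀ {A : List ℕ}, validL 24 A = true → ∀ k, pL (powL A k) = pL A ^ k :=
    fun hA k => (pL_powL hA k).2
  have pv : ∀ {A : List ℕ}, validL 24 A = true → ∀ k, validL 24 (powL A k) = true :=
    fun hA k => (pL_powL hA k).1
  have hVU : V * U = U ^ c.r * V := Subtype.ext (by
    have h := congrArg pL (eqB_eq hvu)
    rwa [pL_compL hv1 hu1, pL_compL (pv hu1 _) hv1, pw hu1] at h)
  have hWV : ∀ x ∈ Wg, x * V = V ^ c.s * x := fun x hx => by
    obtain ⟨⟨L, hL⟩, -, rfl⟩ := List.mem_map.1 hx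
    refine Subtype.ext ?_
    have h := congrArg pL (eqB_eq (hwv L hL))
    have hL1 := (hG.of_test (hw L hL)).1
    rwa [pL_compL hL1 hv1, pL_compL (pv hv1 _) hL1, pw hv1] at h
  have hgen' : Subgroup.closure {x | x ∈ U :: V :: Wg} = ⊤ := by
    rw [eq_top_iff]
    intro x _
    have hx := hgen ((Subgroup.closure {x | x ∈ U :: V :: Wg}).map G.subtype) (fun L hL => ?_) x.2
    · obtain ⟨y, hy, e⟩ := hx
      exact (Subtype.ext e : y = x) ▸ hy
    · have h' : pL L ∈ (U :: V :: Wg).map G.subtype := by
        rw [List.map_cons, List.map_cons, hWg]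
        exact List.mem_map_of_mem (f := pL) hL
      obtain ⟨y, hy, e⟩ := List.mem_map.1 h'
      exact ⟨y, Subgroup.subset_closure hy, e⟩
  classical
  let Wl : List G := c.wList.filterMap fun L =>
    if h : pL L ∈ G then some ⟨pL L, h⟩ else none
  let lift : List ℕ → G := fun L => if h : pL L ∈ G then ⟨pL L, h⟩ else 1
  let Vl : List (ℕ × List G) := c.valid.map fun e => (e.1, e.2.map lift)
  refine (MathieuOut.card_out_le (u := U) (v := V) (ws := Wg) (r := c.r) (s := c.s) hU hsq hgen'
    hVU hWV (fun x hx => ?_) c.reps (fun k hk' => ?_) Wl (fun x hx => ?_) Vl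
    (fun k hkK xs hlen hxs => ?_)).trans (le_of_eq (List.length_map _))
  · obtain ⟨L, hL, e⟩ := transporters hG hu1 c.r hpu hsearch.1 (fun L hL => by
      obtain ⟨e, he, rfl⟩ := List.mem_map.1 hL
      exact (hG.of_test (hn e he).1.1).1) x.2 (congrArg Subtype.val hx)
    obtain ⟨⟨L, i, a⟩, he, rfl⟩ := List.mem_map.1 hL
    obtain ⟨⟨hLm, h1⟩, h2⟩ := hn _ he
    obtain ⟨hL1, -⟩ := hG.of_test hLm
    have e1 := congrArg pL (eqB_eq h1)
    have e2 := congrArg pL (eqB_eq h2)
    dsimp only at e1 e2 hL1 e
    rw [pL_compL (pv hu1 _) hv1, pw hu1] at e1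
    rw [pL_compL (pv hu1 _) hL1, pL_compL hv1 (pv hu1 _), pw hu1, ← e] at e2
    refine ⟨i, Subtype.ext (e.trans e1), a, ?_⟩
    rw [mul_inv_eq_iff_eq_mul]
    exact Subtype.ext e2
  · have hlt : k % c.p < c.p := Nat.mod_lt _ (Fact.out : c.p.Prime).pos
    have h := allLt_spec hk (k % c.p) hlt
    rw [Bool.or_eq_true, Nat.beq_eq, anyB_iff] at h
    obtain ⟨⟨k', l⟩, hkl, he⟩ := h.resolve_left fun e => hk' (Nat.dvd_of_mod_eq_zero e)
    have e := congrArg pL (eqB_eq he)
    rw [pL_compL (pv hv1 _) (pv hu1 _), pL_compL (pv hu1 _) (pv hv1 _), pw hv1, pw hu1, pw hu1] at e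
    refine ⟨l, k', hreps _ hkl, ?_⟩
    rw [mul_inv_eq_iff_eq_mul, ← pow_mod_orderOf U k, hU]
    exact Subtype.ext e
  · obtain ⟨L, hL, e⟩ := transporters hG hv1 c.s hpv hsearch.2
      (fun L hL => (hG.of_test (hwl L hL)).1) x.2 (congrArg Subtype.val hx)
    refine List.mem_filterMap.2 ⟨L, hL, ?_⟩
    rw [dif_pos (hG.of_test (hwl L hL)).2]
    exact congrArg some (Subtype.ext e.symm)
  · obtain ⟨Ls, hLsl, hLsx⟩ : ∃ Ls : List (List ℕ), (∀ L ∈ Ls, L ∈ c.wList) ∧
        Ls.map pL = xs.map G.subtype := by
      clear hlen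
      induction xs with
      | nil => exact ⟨[], by simp, rfl⟩
      | cons x xs ih =>
        obtain ⟨Ls, h1, h2⟩ := ih fun y hy => hxs y (List.mem_cons_of_mem _ hy)
        obtain ⟨L, hL, hxL⟩ := List.mem_filterMap.1 (hxs x List.mem_cons_self)
        rw [dif_pos (hG.of_test (hwl L hL)).2, Option.some.injEq] at hxL
        refine ⟨L :: Ls, List.forall_mem_cons.2 ⟨hL, h1⟩, ?_⟩
        rw [List.map_cons, List.map_cons, h2, ← hxL]
        rfl
    have hlen' : Ls.length = c.ws.length := by
      have h := congrArg List.length hLsx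
      simp only [List.length_map] at h
      rw [h, hlen]
      simp [Wg]
    rcases Bool.or_eq_true _ _ |>.mp (allTuples_spec (hcand k hkK) Ls hlen' hLsl) with h | h
    · left
      obtain ⟨⟨k', L'⟩, he, h'⟩ := anyB_iff.1 h
      simp only [Bool.and_eq_true, Nat.beq_eq] at h'
      obtain ⟨rfl, e⟩ := h'
      refine List.mem_map.2 ⟨_, he, Prod.ext rfl ?_⟩
      show L'.map lift = xs
      rw [eqLL_eq e]
      refine (List.map_injective_iff.2 (Subgroup.subtype_injective G)) ?_
      rw [List.map_map, ← hLsx]
      refine List.map_congr_left fun L hL => ?_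
      simp only [lift, Function.comp_apply, dif_pos (hG.of_test (hwl L (hLsl L hL))).2]
      rfl
    · right
      intro α hαu hαv hαw
      obtain ⟨⟨k', L', word⟩, -, h'⟩ := anyB_iff.1 h
      simp only [Bool.and_eq_true, Nat.beq_eq, Bool.not_eq_true'] at h'
      obtain ⟨⟨⟨rfl, -⟩, hone⟩, hne⟩ := h'
      have hbase : ∀ A ∈ c.u :: c.v :: c.ws, validL 24 A = true := by
        simp only [List.forall_mem_cons]
        exact ⟨hu1, hv1, fun L hL => (hG.of_test (hw L hL)).1⟩
      have e1 : evalG (U :: V :: Wg) word = 1 := Subtype.ext (by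
        have h1 := (pL_evalL hbase word).2
        rw [eqB_eq hone, pL_range, List.map_cons, List.map_cons, ← hWg] at h1
        exact (map_evalG G.subtype _ word).trans h1.symm)
      have e2 : evalG ((U :: V :: Wg).map α) word = 1 := by
        have h2 := map_evalG α.toMonoidHom (U :: V :: Wg) word
        rw [e1, map_one] at h2
        exact h2.symm
      rw [List.map_cons, List.map_cons, hαu, hαv, hαw] at e2
      have hnew : ∀ A ∈ powL c.u k' :: c.v :: Ls, validL 24 A = true := by
        simp only [List.forall_mem_cons]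
        exact ⟨pv hu1 k', hv1, fun L hL => (hG.of_test (hwl L (hLsl L hL))).1⟩
      obtain ⟨hev, hev'⟩ := pL_evalL hnew word
      have e3 : pL (evalL (powL c.u k' :: c.v :: Ls) word) = 1 := by
        rw [hev', List.map_cons, List.map_cons, pw hu1, hLsx]
        exact ((map_evalG G.subtype _ word).symm.trans (congrArg G.subtype e2)).trans (map_one _)
      rw [pL_inj hev validL_range24 (e3.trans pL_range.symm), eqB_refl] at hne
      exact Bool.noConfusion hne

/-- A chain with representatives in a subgroup bounds its order from below. -/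
theorem chain_card_ge (K : Subgroup (Equiv.Perm GolayPt)) :
    ∀ {fixed : List ℕ} {ls : List Level}, chainOk 24 fixed ls = true → RepsMem ptEquiv K ls →
      (ls.map fun l => l.imgs.length).prod ≤ Nat.card ↥(fixNums ptEquiv K fixed)
  | fixed, [], _, _ => by
    simp only [List.map_nil, List.prod_nil]
    exact Nat.card_pos
  | fixed, l :: ls, hok, hmem => by
    obtain ⟨hT, himg, hnd, hb, hrec⟩ := level_facts ptEquiv K hok hmem
    set p := ptEquiv.symm ⟨l.base, hb⟩ with hp
    have hpv : (ptEquiv p).val = l.base := by simp [hp]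
    have ih := chain_card_ge K hrec fun m hm => hmem m (List.mem_cons_of_mem _ hm)
    have himg' := himg p hpv
    set ts := l.reps.map (permOf ptEquiv) with hts
    have hlen : ts.length = l.imgs.length := by rw [← himg']; simp
    rw [List.map_cons, List.prod_cons, ← hlen]
    refine le_trans (Nat.mul_le_mul_left _ ih) ?_
    rw [← Nat.card_fin ts.length, ← Nat.card_prod]
    let f : Fin ts.length × fixNums ptEquiv K (fixed ++ [l.base]) → fixNums ptEquiv K fixed :=
      fun z => ⟨ts[z.1.val] * z.2.val, Subgroup.mul_mem _ (hT _ (List.getElem_mem _))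
        ⟨z.2.2.1, fun q hq => z.2.2.2 q (List.mem_append_left _ hq)⟩⟩
    refine Nat.card_le_card_of_injective f ?_
    rintro ⟨i, a, ha⟩ ⟨j, b, hb'⟩ e
    have e' : ts[i.val] * a = ts[j.val] * b := congrArg Subtype.val e
    have hap : a p = p := ha.2 p (by rw [hpv]; simp)
    have hbp : b p = p := hb'.2 p (by rw [hpv]; simp)
    have h1 := congrArg (fun g : Equiv.Perm GolayPt => (ptEquiv (g p)).val) e'
    simp only [Equiv.Perm.mul_apply, hap, hbp] at h1
    rw [← himg'] at hnd
    have hij : i = j := by
      refine Fin.ext ((List.Nodup.getElem_inj_iff hnd (hi := by simp) (hj := by simp)).1 ?_)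
      simpa [List.getElem_map] using h1
    subst hij
    exact Prod.ext rfl (Subtype.ext (mul_left_cancel e'))

/-- Elements generate a group as soon as a chain built from them is as large as the group. -/
theorem le_of_gens {G : Subgroup (Equiv.Perm GolayPt)} {gens : List (List ℕ)} {steps : List Step}
    {ls : List Level} (hok : chainCheck 24 gens steps [] ls = true)
    (hG : ∀ L ∈ gens, pL L ∈ G)
    (hcard : Nat.card G ≤ (ls.map fun l => l.imgs.length).prod)
    (H : Subgroup (Equiv.Perm GolayPt)) (hH : ∀ L ∈ gens, pL L ∈ H) : G ≤ H := by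
  have hreps : RepsMem ptEquiv (G ⊓ H) ls :=
    chainCheck_reps ptEquiv _ hok fun g hg => ⟨hG g hg, hH g hg⟩
  have h := chain_card_ge (G ⊓ H) (chainCheck_ok hok) hreps
  rw [fixNums_nil] at h
  have e : G ⊓ H = G := Subgroup.eq_of_le_of_card_ge inf_le_left (le_trans hcard h)
  exact e ▸ inf_le_right

end CfsgLib.MathieuOut
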