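import Cfsg.Agent.Lib.MathieuOut.IndexCheck
import Cfsg.Agent.Lib.M24Cert.Transport

/-!
# Subgroups of small index in M22 and M23
-/

set_option autoImplicit false
set_option maxRecDepth 100000

namespace CfsgLib.MathieuOut.Index

open Cfsg CfsgLib.Golay CfsgLib.M24Cert

open scoped Pointwise

theorem m22_no_small_index {H : Subgroup (Equiv.Perm GolayPt)} (hH : H ≤ Cfsg.Spor.M22) :
    Nat.card H ≠ 7920 ∧ Nat.card H ≠ 2112 := by
  obtain ⟨hu, lu, hvu⟩ := check_eleven
  obtain ⟨hv, lv, hwv⟩ := check_five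
  obtain ⟨hchain, hprod⟩ := check_chain
  have hsq : ∀ p : ℕ, p = 11 ∨ p = 5 → ¬ p ^ 2 ∣ Nat.card Cfsg.Spor.M22 := fun p hp => by
    rw [card_sporM22]; rcases hp with rfl | rfl <;> norm_num
  have hu0 := hu
  simp only [normB, Bool.and_eq_true, Bool.not_eq_true'] at hu0
  obtain ⟨⟨⟨⟨⟨-, hum⟩, hup⟩, hu1⟩, -⟩, -⟩ := hu0
  obtain ⟨huv, huM⟩ := m22_cut.of_test hum
  have : Fact (11 : ℕ).Prime := ⟨by norm_num⟩
  have : Fact (5 : ℕ).Prime := ⟨by norm_num⟩
  have hord : orderOf (pL m22Cert.u) = 11 := by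
    refine orderOf_eq_prime (by rw [← (pL_powL huv 11).2, eqB_eq hup, pL_range]) fun h => ?_
    rw [pL_inj huv validL_range24 (h.trans pL_range.symm), eqB_refl] at hu1
    exact Bool.noConfusion hu1
  have reduce : ∀ c : ℕ, 11 ∣ c → Nat.card H = c →
      ∃ K : Subgroup (Equiv.Perm GolayPt), K ≤ Cfsg.Spor.M22 ∧ pL m22Cert.u ∈ K ∧ Nat.card K = c := by
    intro c hc hcard
    obtain ⟨g, -, h1, h2, h3⟩ := exists_conj_mem hH huM hord (hcard ▸ hc) (hsq 11 (Or.inl rfl))
    exact ⟨_, h2, h1, h3.trans hcard⟩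
  refine ⟨fun hcard => ?_, fun hcard => ?_⟩
  · obtain ⟨K, hK, huK, hcK⟩ := reduce 7920 (by norm_num) hcard
    obtain ⟨-, hNu⟩ := full_normalizer m22_cut hK hu lu huK (hsq 11 (Or.inl rfl)) fun a b hab hb ha => by
      rw [hcK] at hab
      interval_cases b <;> omega
    have hvK := hNu _ hvu
    obtain ⟨-, hNv⟩ := full_normalizer m22_cut hK hv lv hvK (hsq 5 (Or.inr rfl)) fun a b hab hb ha => by
      rw [hcK] at hab
      interval_cases b <;> omega
    have hgens : ∀ L ∈ m22Cert.u :: m22Cert.v :: m22Cert.ws, pL L ∈ K := fun L hL => by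
      simp only [List.mem_cons] at hL
      rcases hL with rfl | rfl | hL
      exacts [huK, hvK, hNv L (hwv L hL)]
    have h := chain_card_ge K (chainCheck_ok hchain)
      (chainCheck_reps ptEquiv K hchain fun L hL => hgens L hL)
    rw [fixNums_nil, hprod, hcK] at h
    omega
  · obtain ⟨K, hK, huK, hcK⟩ := reduce 2112 (by norm_num) hcard
    obtain ⟨hdvd, -⟩ := full_normalizer m22_cut hK hu lu huK (hsq 11 (Or.inl rfl)) fun a b hab hb ha => by
      rw [hcK] at hab
      interval_cases b <;> omega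
    rw [hcK] at hdvd
    norm_num at hdvd

/-- The centraliser of the element of order 3 is listed. -/
theorem cent_list {s : Equiv.Perm GolayPt} (hs : s ∈ Cfsg.Spor.M23)
    (hsw : s * pL threeL = pL threeL * s) :
    ∃ L ∈ centW, ∃ j ∈ [0, 1, 2], s = pL (compL L (powL threeL j)) := by
  obtain ⟨hplan, hgo, hker, hkerv, hcov, hcw, ⟨l1, l2, l3, n12, n13, n23, t1, t2, t3⟩, hfix⟩ :=
    check_cent
  obtain ⟨-, -, -, -, -, -, v3, -, -⟩ := check_seven
  simp only [allB_iff, anyB_iff, Bool.and_eq_true] at hker hkerv hcw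
  simp only [coverB, Bool.and_eq_true] at hcov
  obtain ⟨hcov1, hcov2⟩ := hcov
  have hnone : pt 23 = (none : GolayPt) := by decide +kernel
  have img : ∀ f, f < 24 → f ≠ 23 → f ∈ [fOne, fTwo, fThree] →
      ∃ a ∈ fixW, a < 24 ∧ s (pt f) = pt a := by
    intro f hf hne hm
    obtain ⟨a, ha, e⟩ := exists_pt (s (pt f))
    have h := congrArg (fun x : Equiv.Perm GolayPt => x (pt f)) hsw
    simp only [Equiv.Perm.mul_apply] at h
    rw [pL_pt v3 hf, ← getR_eq, Nat.eq_of_beq_eq_true (allB_iff.1 hfix f hm), ← e,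
      pL_pt v3 ha, ← getR_eq] at h
    have ha' : getR threeL a = a :=
      pt_inj (by rw [getR_eq]; exact validL_getD_lt v3 ha) ha h.symm
    have h2 := allLt_spec hcov1 a ha
    rw [ha', Nat.beq_refl, Bool.not_true, Bool.false_or, Bool.or_eq_true, Nat.beq_eq,
      memB_iff] at h2
    refine ⟨a, h2.resolve_left fun ea => hne ?_, ha, e.symm⟩
    rw [ea, hnone, ← show s none = none from MulAction.mem_stabilizer_iff.1 hs.2, ← hnone] at e
    exact pt_inj hf (by norm_num) (s.injective e.symm)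
  obtain ⟨a, ha, ha24, ea⟩ := img fOne l1 t1 (by simp)
  obtain ⟨b, hb, hb24, eb⟩ := img fTwo l2 t2 (by simp)
  obtain ⟨c, hc, hc24, ec⟩ := img fThree l3 t3 (by simp)
  have hne : ∀ {f g x y : ℕ}, f < 24 → g < 24 → f ≠ g → s (pt f) = pt x → s (pt g) = pt y →
      Nat.beq x y = false := by
    intro f g x y hf hg h h1 h2
    refine Bool.eq_false_iff.2 fun e => h (pt_inj hf hg (s.injective ?_))
    rw [h1, h2, Nat.eq_of_beq_eq_true e]
  have h := allB_iff.1 (allB_iff.1 (allB_iff.1 hcov2 a ha) b hb) c hc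
  rw [hne l1 l2 n12 ea eb, hne l1 l3 n13 ea ec, hne l2 l3 n23 eb ec] at h
  simp only [Bool.false_or, anyB_iff, Bool.and_eq_true, Nat.beq_eq] at h
  obtain ⟨L, hL, ⟨e1, e2⟩, e3⟩ := h
  obtain ⟨hLg, hLw⟩ := hcw L hL
  obtain ⟨hLv, hLM⟩ := m23_cut.of_test hLg
  let G : Subgroup (Equiv.Perm GolayPt) :=
    Cfsg.Spor.M23 ⊓ (MulAction.stabilizer (Equiv.Perm GolayPt) (pt fOne) ⊓
      (MulAction.stabilizer (Equiv.Perm GolayPt) (pt fTwo) ⊓
        MulAction.stabilizer (Equiv.Perm GolayPt) (pt fThree)))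
  have hst : ∀ {i : ℕ}, i < 24 → ∀ f : Equiv.Perm GolayPt,
      (f • toSet (2 ^ i) = toSet (2 ^ i) ↔ f (pt i) = pt i) := fun hi f =>
    smul_single_iff f (toSet_pow hi)
  have hG : Cut G [8388608, 2 ^ fOne, 2 ^ fTwo, 2 ^ fThree] := by
    refine ⟨inf_le_left.trans inf_le_left, fun f hf m hm => ?_, fun f hf h => ⟨?_, ?_, ?_, ?_⟩⟩
    · simp only [List.mem_cons, List.not_mem_nil, or_false] at hm
      rcases hm with rfl | rfl | rfl | rfl
      exacts [m23_cut.inv f hf.1 _ (by simp), (hst l1 f).2 hf.2.1, (hst l2 f).2 hf.2.2.1,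
        (hst l3 f).2 hf.2.2.2]
    · exact m23_cut.mem f hf fun m hm => h m (by simp only [List.mem_singleton] at hm; simp [hm])
    · exact (hst l1 f).1 (h _ (by simp))
    · exact (hst l2 f).1 (h _ (by simp))
    · exact (hst l3 f).1 (h _ (by simp))
  have hcl : pL L * pL threeL = pL threeL * pL L := by
    have := congrArg pL (eqB_eq hLw)
    rwa [pL_compL hLv v3, pL_compL v3 hLv] at this
  have hfx : ∀ {f x : ℕ}, f < 24 → getR L f = x → s (pt f) = pt x →
      ((pL L)⁻¹ * s) (pt f) = pt f := by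
    intro f x hf h1 h2
    rw [Equiv.Perm.mul_apply, h2, Equiv.Perm.inv_eq_iff_eq, pL_pt hLv hf, ← getR_eq, h1]
  have hxG : (pL L)⁻¹ * s ∈ G :=
    ⟨Subgroup.mul_mem _ (Subgroup.inv_mem _ hLM) hs, hfx l1 e1 ea, hfx l2 e2 eb, hfx l3 e3 ec⟩
  have hxT : ((pL L)⁻¹ * s) * pL threeL = pL threeL ^ 1 * ((pL L)⁻¹ * s) := by
    rw [pow_one, mul_assoc, hsw, ← mul_assoc, ← mul_assoc,
      (Commute.inv_left (show Commute (pL L) (pL threeL) from hcl)).eq]
  obtain ⟨K, hK, eK⟩ := transporters hG v3 1 hplan hgo hkerv hxG hxT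
  obtain ⟨j, hj, ej⟩ := hker K hK
  refine ⟨L, hL, j, hj, ?_⟩
  rw [pL_compL hLv (pL_powL v3 j).1, ← eqB_eq ej, ← eK, mul_inv_cancel_left]

/-- A subgroup of index 253 containing the element of order 7 fixes one of the two masks. -/
theorem m23_base {H : Subgroup (Equiv.Perm GolayPt)} (hH : H ≤ Cfsg.Spor.M23)
    (hcard : Nat.card H = 40320) (h7 : pL seven ∈ H) :
    ∃ m ∈ caseMasks, ∀ g ∈ H, g • toSet m = toSet m := by
  obtain ⟨hB, hlen, h6m, h3m, v7, v6, v3, h33, h31⟩ := check_seven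
  have hcases := check_cases
  have hcent := check_candidates
  have : Fact (7 : ℕ).Prime := ⟨by norm_num⟩
  have : Fact (3 : ℕ).Prime := ⟨by norm_num⟩
  obtain ⟨-, hN⟩ := full_normalizer m23_cut hH hB hlen h7 (by rw [card_sporM23]; norm_num)
    fun a b hab hb ha => by
      rw [hcard] at hab
      interval_cases b <;> omega
  have h6 := hN _ h6m
  have h3 := hN _ h3m
  let w : H := ⟨pL threeL, h3⟩
  have hne : pL threeL ≠ 1 := fun h => h31 (pL_inj v3 validL_range24 (h.trans pL_range.symm))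
  have hw : orderOf w = 3 := by
    rw [← Subgroup.orderOf_coe]
    exact orderOf_eq_prime (by rw [← (pL_powL v3 3).2, eqB_eq h33, pL_range]) hne
  have hcw : Nat.card (Subgroup.zpowers w) = 3 := by rw [Nat.card_zpowers, hw]
  obtain ⟨S, hS⟩ := IsPGroup.exists_le_sylow
    ((IsPGroup.of_card (n := 1) (hcw.trans (pow_one 3).symm) : IsPGroup 3 (Subgroup.zpowers w)))
  have hScard : Nat.card S = 9 := by
    rw [S.card_eq_multiplicity, hcard, show (40320 : ℕ) = 3 ^ 2 * 4480 by norm_num,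
      Nat.factorization_mul (by norm_num) (by norm_num), Nat.factorization_pow]
    simp [Nat.Prime.factorization_self (by norm_num : Nat.Prime 3),
      Nat.factorization_eq_zero_of_not_dvd (by norm_num : ¬ 3 ∣ 4480)]
  have := IsPGroup.isMulCommutative_of_card_eq_prime_sq (p := 3)
    (show Nat.card S = 3 ^ 2 from hScard)
  obtain ⟨s, hsS, hsw⟩ : ∃ s ∈ (S : Subgroup H), s ∉ Subgroup.zpowers w := by
    by_contra hcon
    push Not at hcon
    have h := Subgroup.card_dvd_of_le (show (S : Subgroup H) ≤ Subgroup.zpowers w from hcon)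
    rw [hScard, hcw] at h
    norm_num at h
  have hcomm : s * w = w * s :=
    congrArg Subtype.val (mul_comm' (⟨s, hsS⟩ : S) ⟨w, hS (Subgroup.mem_zpowers w)⟩)
  have hs9 : s ^ 9 = 1 := by
    have h : orderOf (⟨s, hsS⟩ : (S : Subgroup H)) ∣ Nat.card (S : Subgroup H) := orderOf_dvd_natCard _
    rw [hScard, Subgroup.orderOf_mk] at h
    exact orderOf_dvd_iff_pow_eq_one.1 h
  rw [allB_iff] at hcent hcases
  obtain ⟨L₀, hL₀, i, hi, eL₀⟩ := cent_list (hH s.2) (congrArg Subtype.val hcomm)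
  obtain ⟨L, eL, hL'⟩ : ∃ L, (s : Equiv.Perm GolayPt) = pL L ∧ centB L = true :=
    ⟨_, eL₀, allB_iff.1 (hcent L₀ hL₀) i hi⟩
  simp only [centB, Bool.and_eq_true, Bool.or_eq_true, Bool.not_eq_true', anyB_iff] at hL'
  obtain ⟨hLv, hcase⟩ := hL'
  have hsL : pL L ∈ H := eL ▸ s.2
  obtain ⟨c, hc, k, -, j, -, hcand⟩ := hcase.resolve_left (by
    rintro (h | ⟨j, -, hj⟩)
    · have e : powL L 9 = List.range 24 := pL_inj (pL_powL hLv 9).1 validL_range24 (by
        rw [(pL_powL hLv 9).2, ← eL, pL_range, ← Subgroup.coe_pow, hs9, Subgroup.coe_one])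
      rw [e, eqB_refl] at h
      exact Bool.noConfusion h
    · refine hsw (Subgroup.mem_zpowers_iff.2 ⟨j, Subtype.ext ?_⟩)
      rw [zpow_natCast, Subgroup.coe_pow, eL, eqB_eq hj, (pL_powL v3 j).2])
  have hc1 : pL c.1 ∈ H := by
    rw [eqB_eq hcand, pL_compL (pL_powL hLv k).1 (pL_powL v3 j).1, (pL_powL hLv k).2,
      (pL_powL v3 j).2]
    exact mul_mem (pow_mem hsL k) (pow_mem h3 j)
  have hcc := hcases c hc
  simp only [caseB, Bool.and_eq_true, Bool.or_eq_true, decide_eq_true_eq, anyB_iff, allB_iff] at hcc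
  obtain ⟨hcv, hchain, hsize⟩ := hcc
  have hgens : ∀ (K : Subgroup (Equiv.Perm GolayPt)), pL seven ∈ K → pL sixL ∈ K → pL c.1 ∈ K →
      (c.2.2.map fun l => l.imgs.length).prod ≤ Nat.card K := by
    intro K a b d
    have h := chain_card_ge K (chainCheck_ok hchain)
      (chainCheck_reps ptEquiv K hchain fun L hL => by
        simp only [List.mem_cons, List.not_mem_nil, or_false] at hL
        rcases hL with rfl | rfl | rfl
        exacts [a, b, d])
    rwa [fixNums_nil] at h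
  rcases hsize with hbig | ⟨hge, m, hm, hfix⟩
  · exact absurd (hgens H h7 h6 hc1) (by omega)
  · refine ⟨m, hm, fun g hg => ?_⟩
    have st : ∀ A ∈ [seven, sixL, c.1], validL 24 A = true → pL A • toSet m = toSet m :=
      fun A hA hv => by rw [smul_toSet_imgF hv, ← imgR_eq, Nat.eq_of_beq_eq_true (hfix A hA)]
    have h := hgens (H ⊓ MulAction.stabilizer (Equiv.Perm GolayPt) (toSet m))
      ⟨h7, st _ (by simp) v7⟩ ⟨h6, st _ (by simp) v6⟩ ⟨hc1, st _ (by simp) hcv⟩
    have e := Subgroup.eq_of_le_of_card_ge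
      (inf_le_left : H ⊓ MulAction.stabilizer (Equiv.Perm GolayPt) (toSet m) ≤ H)
      (by rw [hcard]; exact le_trans hge h)
    rw [← e] at hg
    exact hg.2

end CfsgLib.MathieuOut.Index
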