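import Cfsg.Agent.Lib.MathieuOut.SylowFull
import Cfsg.Agent.Lib.MathieuOut.IndexData

/-!
# The certified computations for the subgroups of small index in M22 and M23
-/

set_option autoImplicit false
set_option maxRecDepth 100000

namespace CfsgLib.MathieuOut.Index

open Cfsg CfsgLib.Golay CfsgLib.M24Cert

set_option maxHeartbeats 4000000 in
theorem check_eleven :
    normB m22Cert.masks m22Cert.u 11 planEleven transEleven = true ∧
    (transEleven.flatMap (·.2)).length = 55 ∧ m22Cert.v ∈ transEleven.flatMap (·.2) := by
  refine ⟨?_, ?_, ?_⟩ <;> decide +kernel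

set_option maxHeartbeats 4000000 in
theorem check_five :
    normB m22Cert.masks m22Cert.v 5 planFive transFive = true ∧
    (transFive.flatMap (·.2)).length = 20 ∧
    ∀ L ∈ m22Cert.ws, L ∈ transFive.flatMap (·.2) := by
  refine ⟨?_, ?_, ?_⟩ <;> decide +kernel

set_option maxHeartbeats 4000000 in
theorem check_chain :
    chainCheck 24 (m22Cert.u :: m22Cert.v :: m22Cert.ws) m22Steps [] m22Levels = true ∧
    (m22Levels.map fun l => l.imgs.length).prod = 443520 := by
  refine ⟨?_, ?_⟩ <;> decide +kernel

/-- The masks fixed by a candidate case. -/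
noncomputable def caseMasks : List ℕ := [duadMask, heptMask]

/-- The check on a candidate. -/
noncomputable def caseB (c : List ℕ × List Step × List Level) : Bool :=
  chainCheck 24 [seven, sixL, c.1] c.2.1 [] c.2.2 &&
    (decide (40320 < (c.2.2.map fun l => l.imgs.length).prod) ||
      (decide (40320 ≤ (c.2.2.map fun l => l.imgs.length).prod) &&
        anyB (fun m => allB (fun L => Nat.beq (imgR L m) m) [seven, sixL, c.1]) caseMasks))

/-- An element of the centraliser of order dividing 9 lies in a candidate group. -/
noncomputable def centB (L : List ℕ) : Bool :=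
  validL 24 L && (!(eqB (powL L 9) (List.range 24)) ||
    anyB (fun j => eqB L (powL threeL j)) [0, 1, 2] ||
    anyB (fun c => anyB (fun k => anyB (fun j =>
      eqB c.1 (compL (powL L k) (powL threeL j))) [0, 1, 2]) [1, 2]) cases)

set_option maxHeartbeats 4000000 in
theorem check_seven :
    normB [8388608] seven 7 planSeven transSeven = true ∧
    (transSeven.flatMap (·.2)).length = 42 ∧
    sixL ∈ transSeven.flatMap (·.2) ∧ threeL ∈ transSeven.flatMap (·.2) ∧
    validL 24 seven = true ∧ validL 24 sixL = true ∧ validL 24 threeL = true ∧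
    eqB (powL threeL 3) (List.range 24) = true ∧ threeL ≠ List.range 24 := by
  refine ⟨?_, ?_, ?_, ?_, ?_, ?_, ?_, ?_, ?_⟩ <;> decide +kernel

/-- The first three fixed points. -/
noncomputable def fOne : ℕ := getR fixW 0

/-- The second fixed point. -/
noncomputable def fTwo : ℕ := getR fixW 1

/-- The third fixed point. -/
noncomputable def fThree : ℕ := getR fixW 2

/-- The elements listed cover the images of the three fixed points. -/
noncomputable def coverB : Bool :=
  allLt (fun i => !(Nat.beq (getR threeL i) i) || Nat.beq i 23 || memB i fixW) 24 &&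
    allB (fun a => allB (fun b => allB (fun c =>
      Nat.beq a b || Nat.beq a c || Nat.beq b c || anyB (fun L =>
        Nat.beq (getR L fOne) a && Nat.beq (getR L fTwo) b && Nat.beq (getR L fThree) c) centW)
      fixW) fixW) fixW

set_option maxHeartbeats 4000000 in
theorem check_cent :
    planB threeL planW = true ∧
    goA threeL (powL threeL 1) [8388608, 2 ^ fOne, 2 ^ fTwo, 2 ^ fThree] kerW planW [] = true ∧
    allB (fun L => anyB (fun j => eqB L (powL threeL j)) [0, 1, 2]) kerW = true ∧
    allB (fun L => validL 24 L) kerW = true ∧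
    coverB = true ∧
    allB (fun L => memG [8388608] L && eqB (compL L threeL) (compL threeL L)) centW = true ∧
    (fOne < 24 ∧ fTwo < 24 ∧ fThree < 24 ∧ fOne ≠ fTwo ∧ fOne ≠ fThree ∧ fTwo ≠ fThree ∧
      fOne ≠ 23 ∧ fTwo ≠ 23 ∧ fThree ≠ 23) ∧
    allB (fun f => Nat.beq (getR threeL f) f) [fOne, fTwo, fThree] = true := by
  refine ⟨?_, ?_, ?_, ?_, ?_, ?_, ?_, ?_⟩ <;> decide +kernel

set_option maxHeartbeats 4000000 in
theorem check_candidates :
    allB (fun L => allB (fun j => centB (compL L (powL threeL j))) [0, 1, 2]) centW = true := by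
  decide +kernel

set_option maxHeartbeats 4000000 in
theorem check_cases : allB (fun c => validL 24 c.1 && caseB c) cases = true := by
  decide +kernel

end CfsgLib.MathieuOut.Index
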