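import Cfsg.Agent.Lib.MathieuOut.Index

/-!
# Subgroups of index 56, 210 and 253
-/

set_option autoImplicit false

namespace CfsgLib.MathieuOut.Index

open Cfsg CfsgLib.Golay CfsgLib.M24Cert

open scoped Pointwise

theorem pt_facts : (none : GolayPt) ≠ some 0 ∧
    toSet duadMask = ({pt 5, pt 14} : Finset GolayPt) ∧ pt 5 ≠ pt 14 ∧
    (none : GolayPt) ≠ pt 5 ∧ (none : GolayPt) ≠ pt 14 ∧
    (none : GolayPt) ∈ toSet heptMask ∧
    pt 23 = (none : GolayPt) := by
  refine ⟨?_, ?_, ?_, ?_, ?_, ?_, ?_⟩ <;> decide +kernel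

/-- The embedding of a subgroup of M24 conjugated into standard position. -/
noncomputable def toBase (g : Equiv.Perm GolayPt) (S : Subgroup ↥M24) : ↥S →* Equiv.Perm GolayPt :=
  (MulAut.conj g⁻¹).toMonoidHom.comp (M24.subtype.comp S.subtype)

theorem toBase_inj (g : Equiv.Perm GolayPt) (S : Subgroup ↥M24) :
    Function.Injective (toBase g S) := fun a b h =>
  Subtype.ext (Subtype.ext ((MulAut.conj g⁻¹).injective h))

theorem toBase_apply (g : Equiv.Perm GolayPt) (S : Subgroup ↥M24) (x : ↥S) :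
    toBase g S x = g⁻¹ * x.1.1 * g := by
  simp [toBase]

theorem two_point_index (p q : GolayPt) (hpq : p ≠ q)
    (H : Subgroup ↥(MulAction.stabilizer M24 p ⊓ MulAction.stabilizer M24 q)) :
    H.index ≠ 56 ∧ H.index ≠ 210 := by
  obtain ⟨g, hg, e1, e2⟩ := M24_map_two pt_facts.1 hpq
  have hrange : (toBase g (MulAction.stabilizer M24 p ⊓ MulAction.stabilizer M24 q)).range = Cfsg.Spor.M22 := by
    ext x
    constructor
    · rintro ⟨⟨⟨y, hy⟩, hp, hq⟩, rfl⟩
      rw [toBase_apply]
      refine ⟨⟨Subgroup.mul_mem _ (Subgroup.mul_mem _ (Subgroup.inv_mem _ hg) hy) hg, ?_⟩, ?_⟩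
      · refine MulAction.mem_stabilizer_iff.2 ?_
        show (g⁻¹ * y * g) none = none
        rw [Equiv.Perm.mul_apply, Equiv.Perm.mul_apply, e1, show y p = p from hp,
          Equiv.Perm.inv_eq_iff_eq, e1]
      · refine MulAction.mem_stabilizer_iff.2 ?_
        show (g⁻¹ * y * g) (some 0) = some 0
        rw [Equiv.Perm.mul_apply, Equiv.Perm.mul_apply, e2, show y q = q from hq,
          Equiv.Perm.inv_eq_iff_eq, e2]
    · rintro ⟨⟨hx, h1⟩, h2⟩
      have h1' : x none = none := MulAction.mem_stabilizer_iff.1 h1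
      have h2' : x (some 0) = some 0 := MulAction.mem_stabilizer_iff.1 h2
      refine ⟨⟨⟨g * x * g⁻¹, mem_M24_conj hg hx⟩, ?_, ?_⟩, ?_⟩
      · show (g * x * g⁻¹) p = p
        rw [← e1, conj_apply, h1']
      · show (g * x * g⁻¹) q = q
        rw [← e2, conj_apply, h2']
      · rw [toBase_apply]
        group
  have hSc : Nat.card ↥(MulAction.stabilizer M24 p ⊓ MulAction.stabilizer M24 q) = 443520 := by
    rw [← card_sporM22, ← hrange]
    exact Nat.card_congr (MonoidHom.ofInjective (toBase_inj g (MulAction.stabilizer M24 p ⊓ MulAction.stabilizer M24 q))).toEquiv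
  have hle : H.map (toBase g (MulAction.stabilizer M24 p ⊓ MulAction.stabilizer M24 q)) ≤ Cfsg.Spor.M22 := hrange ▸ Subgroup.map_le_range _ _
  obtain ⟨n1, n2⟩ := m22_no_small_index hle
  rw [Subgroup.card_map_of_injective (toBase_inj g (MulAction.stabilizer M24 p ⊓ MulAction.stabilizer M24 q))] at n1 n2
  have h := H.index_mul_card
  rw [hSc] at h
  constructor <;> intro e <;> rw [e] at h <;> omega

theorem none_octads_count : {o : Finset GolayPt | o ∈ octads ∧ (none : GolayPt) ∈ o}.ncard = 253 := by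
  rw [← pt_facts.2.2.2.2.2.2,
    octads_complete.count (fun U => pt 23 ∈ U) (fun n => n.testBit 23)
      (fun i _ => by simp [pt_mem_toSet])]
  decide +kernel

theorem heptMask_octad : toSet heptMask ∈ octads := isOctB_spec (by decide +kernel)

theorem stab_card_le {m : ℕ} (X : Finset (Finset GolayPt)) (hX : X.card = 253)
    (htrans : ∀ s ∈ X, ∃ g ∈ Cfsg.Spor.M23, g • toSet m = s) :
    Nat.card ↥(Cfsg.Spor.M23 ⊓ MulAction.stabilizer (Equiv.Perm GolayPt) (toSet m)) ≤ 40320 := by
  have e : (MulAction.stabilizer ↥Cfsg.Spor.M23 (toSet m)).map Cfsg.Spor.M23.subtype =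
      Cfsg.Spor.M23 ⊓ MulAction.stabilizer (Equiv.Perm GolayPt) (toSet m) := by
    ext x
    constructor
    · rintro ⟨y, hy, rfl⟩
      exact ⟨y.2, hy⟩
    · rintro ⟨hx, hs⟩
      exact ⟨⟨x, hx⟩, hs, rfl⟩
  rw [← e, Subgroup.card_map_of_injective Cfsg.Spor.M23.subtype_injective]
  have h := (MulAction.stabilizer ↥Cfsg.Spor.M23 (toSet m)).index_mul_card
  rw [card_sporM23, MulAction.index_stabilizer] at h
  have hsub : (↑X : Set (Finset GolayPt)) ⊆ MulAction.orbit ↥Cfsg.Spor.M23 (toSet m) := by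
    intro s hs
    obtain ⟨g, hg, e⟩ := htrans s hs
    exact ⟨⟨g, hg⟩, e⟩
  have hle := Set.ncard_le_ncard hsub (Set.toFinite _)
  rw [Set.ncard_coe_finset, hX] at hle
  have h2 := Nat.mul_le_mul_right (Nat.card ↥(MulAction.stabilizer ↥Cfsg.Spor.M23 (toSet m))) hle
  omega

theorem point_index (x : GolayPt) (H : Subgroup ↥(MulAction.stabilizer M24 x)) (hH : H.index = 253) :
    (∃ s : Finset GolayPt, s.card = 2 ∧ x ∉ s ∧
        H = (MulAction.stabilizer M24 s).subgroupOf (MulAction.stabilizer M24 x)) ∨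
      ∃ o ∈ octads, x ∈ o ∧
        H = (MulAction.stabilizer M24 o).subgroupOf (MulAction.stabilizer M24 x) := by
  obtain ⟨g, hg, e1⟩ := point_map x (none : GolayPt)
  have hrange : (toBase g (MulAction.stabilizer M24 x)).range = Cfsg.Spor.M23 := by
    ext z
    constructor
    · rintro ⟨⟨⟨y, hy⟩, hp⟩, rfl⟩
      rw [toBase_apply]
      refine ⟨Subgroup.mul_mem _ (Subgroup.mul_mem _ (Subgroup.inv_mem _ hg) hy) hg, MulAction.mem_stabilizer_iff.2 ?_⟩
      show (g⁻¹ * y * g) none = none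
      rw [Equiv.Perm.mul_apply, Equiv.Perm.mul_apply, e1, show y x = x from hp,
        Equiv.Perm.inv_eq_iff_eq, e1]
    · rintro ⟨hx, h1⟩
      have h1' : z none = none := MulAction.mem_stabilizer_iff.1 h1
      refine ⟨⟨⟨g * z * g⁻¹, mem_M24_conj hg hx⟩, ?_⟩, ?_⟩
      · show (g * z * g⁻¹) x = x
        rw [← e1, conj_apply, h1']
      · rw [toBase_apply]
        group
  have hSc : Nat.card ↥(MulAction.stabilizer M24 x) = 10200960 := by
    rw [← card_sporM23, ← hrange]
    exact Nat.card_congr (MonoidHom.ofInjective (toBase_inj g (MulAction.stabilizer M24 x))).toEquiv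
  set K := H.map (toBase g (MulAction.stabilizer M24 x)) with hK
  have hKle : K ≤ Cfsg.Spor.M23 := hrange ▸ Subgroup.map_le_range _ _
  have hKc : Nat.card ↥K = 40320 := by
    rw [hK, Subgroup.card_map_of_injective (toBase_inj g (MulAction.stabilizer M24 x))]
    have h := H.index_mul_card
    rw [hSc, hH] at h
    omega
  obtain ⟨-, -, -, -, v7, -, -, -, -⟩ := check_seven
  have hB := check_seven.1
  simp only [normB, Bool.and_eq_true, Bool.not_eq_true'] at hB
  obtain ⟨⟨⟨⟨⟨-, h7m⟩, h7p⟩, h71⟩, -⟩, -⟩ := hB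
  have : Fact (7 : ℕ).Prime := ⟨by norm_num⟩
  have hord : orderOf (pL seven) = 7 := by
    refine orderOf_eq_prime (by rw [← (pL_powL v7 7).2, eqB_eq h7p, pL_range]) fun h => ?_
    rw [pL_inj v7 validL_range24 (h.trans pL_range.symm), eqB_refl] at h71
    exact Bool.noConfusion h71
  obtain ⟨c, hc, hmem, hle, hcc⟩ := exists_conj_mem hKle (m23_cut.of_test h7m).2 hord
    (by rw [hKc]; norm_num) (by rw [card_sporM23]; norm_num)
  rw [hKc] at hcc
  obtain ⟨m, hm, hfix⟩ := m23_base hle hcc hmem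
  have hc24 : c ∈ M24 := hc.1
  have hcn : c none = none := MulAction.mem_stabilizer_iff.1 hc.2
  have hgc : g * c⁻¹ ∈ M24 := mul_mem hg (inv_mem hc24)
  have hgcn : (g * c⁻¹) none = x := by
    rw [Equiv.Perm.mul_apply, Equiv.Perm.inv_eq_iff_eq.2 hcn.symm, e1]
  have key : Nat.card ↥(Cfsg.Spor.M23 ⊓ MulAction.stabilizer (Equiv.Perm GolayPt) (toSet m)) ≤
      40320 → H = (MulAction.stabilizer M24 ((g * c⁻¹) • toSet m)).subgroupOf (MulAction.stabilizer M24 x) := by
    intro hbound
    have e : K.map (MulAut.conj c).toMonoidHom =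
        Cfsg.Spor.M23 ⊓ MulAction.stabilizer (Equiv.Perm GolayPt) (toSet m) :=
      Subgroup.eq_of_le_of_card_ge (le_inf hle fun y hy => hfix y hy) (hcc ▸ hbound)
    ext y
    have h1 : y ∈ H ↔ MulAut.conj c (toBase g (MulAction.stabilizer M24 x) y) ∈ K.map (MulAut.conj c).toMonoidHom := by
      rw [← Subgroup.mem_map_iff_mem (toBase_inj g (MulAction.stabilizer M24 x)) (K := H),
        ← Subgroup.mem_map_iff_mem (f := (MulAut.conj c).toMonoidHom) (MulAut.conj c).injective]
      rfl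
    have h2 : MulAut.conj c (toBase g (MulAction.stabilizer M24 x) y) ∈ Cfsg.Spor.M23 := by
      have h := hrange ▸ MonoidHom.mem_range.2 ⟨y, rfl⟩
      exact Subgroup.mul_mem _ (Subgroup.mul_mem _ hc h) (Subgroup.inv_mem _ hc)
    rw [h1, e, Subgroup.mem_subgroupOf, MulAction.mem_stabilizer_iff, Subgroup.mem_inf,
      and_iff_right h2, MulAction.mem_stabilizer_iff, MulAut.conj_apply, toBase_apply]
    show (c * (g⁻¹ * y.1.1 * g) * c⁻¹) • toSet m = toSet m ↔
      y.1.1 • ((g * c⁻¹) • toSet m) = (g * c⁻¹) • toSet m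
    rw [show c * (g⁻¹ * y.1.1 * g) * c⁻¹ = (g * c⁻¹)⁻¹ * y.1.1 * (g * c⁻¹) by group, mul_smul,
      mul_smul, inv_smul_eq_iff]
  obtain ⟨hne, hduad, h514, hn5, hn14, hnh, -⟩ := pt_facts
  simp only [caseMasks, List.mem_cons, List.not_mem_nil, or_false] at hm
  classical
  rcases hm with rfl | rfl
  · refine Or.inl ⟨_, ?_, ?_, key ?_⟩
    · rw [Finset.card_smul_finset, hduad, Finset.card_pair h514]
    · rw [← hgcn, apply_mem_smul, hduad]
      simp [hn5, hn14]
    · refine stab_card_le ((Finset.univ.erase (none : GolayPt)).powersetCard 2) ?_ fun s hs => ?_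
      · rw [Finset.card_powersetCard, Finset.card_erase_of_mem (Finset.mem_univ _), Finset.card_univ,
          Fintype.card_congr ptEquiv, Fintype.card_fin]
        rfl
      · obtain ⟨hs1, hs2⟩ := Finset.mem_powersetCard.1 hs
        obtain ⟨u, v, huv, rfl⟩ := Finset.card_eq_two.1 hs2
        have hu : u ≠ none := (Finset.mem_erase.1 (hs1 (by simp))).1
        have hv : v ≠ none := (Finset.mem_erase.1 (hs1 (by simp))).1
        obtain ⟨k, hk, k1, k2, k3⟩ := M24_map_three hn5 hn14 h514 hu.symm hv.symm huv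
        refine ⟨k, ⟨hk, MulAction.mem_stabilizer_iff.2 k1⟩, ?_⟩
        rw [hduad, Finset.smul_finset_insert, Finset.smul_finset_singleton, Equiv.Perm.smul_def,
          Equiv.Perm.smul_def, k2, k3]
  · refine Or.inr ⟨_, (octads_smul_iff hgc _).2 heptMask_octad, ?_, key ?_⟩
    · rw [← hgcn, apply_mem_smul]
      exact hnh
    · refine stab_card_le
        (Finset.univ.filter fun o => o ∈ octads ∧ (none : GolayPt) ∈ o) ?_ fun s hs => ?_
      · rw [← none_octads_count, ← Set.ncard_coe_finset]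
        congr 1
        ext o
        simp
      · obtain ⟨hs1, hs2⟩ := (Finset.mem_filter.1 hs).2
        obtain ⟨a, ha, a1, a2⟩ := ptIn_map heptMask_octad hnh
        obtain ⟨b, hb, b1, b2⟩ := ptIn_map hs1 hs2
        refine ⟨b * a⁻¹, ⟨Subgroup.mul_mem _ hb (Subgroup.inv_mem _ ha), MulAction.mem_stabilizer_iff.2 ?_⟩, ?_⟩
        · show (b * a⁻¹) none = none
          rw [Equiv.Perm.mul_apply, Equiv.Perm.inv_eq_iff_eq.2 a2.symm, b2]
        · rw [mul_smul, inv_smul_eq_iff.2 a1.symm, b1]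

end CfsgLib.MathieuOut.Index
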