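import Cfsg.Agent.Lib.Known.SL2Multiplier

/-!
# Local conditions killing the kernel of a stem extension
-/

set_option autoImplicit false

namespace CfsgLib.Schur.LocalKill

open Subgroup
open scoped commutatorElement

universe u

variable {E : Type u} {G : Type*} [Group E] [Group G]

/-- The kernel of a stem extension is trivial when it meets the derived groups of the preimages of
the Sylow subgroups trivially. -/
theorem ker_eq_one_of_preimage [Finite E] [Finite G] (σ : E →* G) (hσ : Cfsg.IsStemExtension σ)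
    (h : ∀ (p : ℕ) [Fact p.Prime], p ∣ Nat.card G → ∃ P : Subgroup G, ¬ p ∣ P.index ∧
      ∀ z : E, z ∈ ⁅P.comap σ, P.comap σ⁆ → σ z = 1 → z = 1) :
    ∀ z ∈ σ.ker, z = 1 := by
  classical
  by_contra hne
  push Not at hne
  obtain ⟨z₀, hz₀, hz₀1⟩ := hne
  obtain ⟨p, hp, hdvd⟩ := Nat.exists_prime_and_dvd (mt orderOf_eq_one_iff.mp hz₀1)
  have := Fact.mk hp
  set z := z₀ ^ (orderOf z₀ / p) with hz
  have hzo : orderOf z = p := by
    rw [hz, orderOf_pow_of_dvd (Nat.div_ne_zero_iff.mpr ⟨hp.ne_zero,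
      Nat.le_of_dvd (orderOf_pos z₀) hdvd⟩) (Nat.div_dvd_of_dvd hdvd),
      Nat.div_div_self hdvd (orderOf_pos z₀).ne']
  have hzk : z ∈ σ.ker := pow_mem hz₀ _
  have hcase : ∀ (P : Subgroup G), ¬ p ∣ P.index →
      (∀ w : E, w ∈ ⁅P.comap σ, P.comap σ⁆ → σ w = 1 → w = 1) → False := by
    intro P hP hPfree
    let R := P.comap σ
    have hidx : R.index = P.index := Subgroup.index_comap_of_surjective _ hσ.1
    let ϕ : R →* Abelianization R := Abelianization.of
    have hzc := hσ.2.1 hzk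
    have key : ∀ (k : ℕ) (g₀ : E), g₀⁻¹ * z ^ k * g₀ ∈ R → g₀⁻¹ * z ^ k * g₀ = z ^ k := by
      intro k g₀ _
      rw [mul_assoc, ← Subgroup.mem_center_iff.mp (pow_mem hzc k) g₀, inv_mul_cancel_left]
    have h1 : MonoidHom.transfer ϕ z = 1 :=
      (Abelianization.commutator_subset_ker (MonoidHom.transfer ϕ)) (hσ.2.2 hzk)
    rw [MonoidHom.transfer_eq_pow ϕ z key] at h1
    have hmem : (⟨z ^ R.index, MonoidHom.transfer_eq_pow_aux z key⟩ : R) ∈ commutator R :=
      (QuotientGroup.eq_one_iff _).mp h1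
    have hmem' : z ^ R.index ∈ ⁅R, R⁆ := by
      rw [← Subgroup.map_subtype_commutator]
      exact ⟨_, hmem, rfl⟩
    have hz1 : z ^ R.index = 1 := hPfree _ hmem' (by rw [map_pow, hzk, one_pow])
    rw [← orderOf_dvd_iff_pow_eq_one, hzo, hidx] at hz1
    exact hP hz1
  by_cases hpG : p ∣ Nat.card G
  · obtain ⟨P, hP, hP'⟩ := h p hpG
    exact hcase P hP hP'
  · refine hcase ⊥ (by rwa [Subgroup.index_bot]) fun w hw _ => ?_
    have hbot : ⁅(⊥ : Subgroup G).comap σ, (⊥ : Subgroup G).comap σ⁆ ≤ ⊥ := by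
      rw [Subgroup.commutator_le]
      intro u hu v _
      exact Subgroup.mem_bot.mpr (commutatorElement_eq_one_iff_mul_comm.mpr
        (Subgroup.mem_center_iff.mp (hσ.2.1 (Subgroup.mem_bot.mp hu)) v).symm)
    exact Subgroup.mem_bot.mp (hbot hw)

/-- A cyclic subgroup has an abelian preimage. -/
theorem free_cyclic (σ : E →* G) (hc : σ.ker ≤ center E) (P : Subgroup G) [IsCyclic P] :
    ∀ z : E, z ∈ ⁅P.comap σ, P.comap σ⁆ → σ z = 1 → z = 1 := by
  intro z hz _
  let τ : P.comap σ →* P := (σ.comp (P.comap σ).subtype).codRestrict P fun x => x.2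
  have hτ : τ.ker ≤ center (P.comap σ) := fun x hx => Subgroup.mem_center_iff.mpr fun g =>
    Subtype.ext (Subgroup.mem_center_iff.mp (hc (show σ x.1 = 1 from congrArg Subtype.val hx)) g.1)
  have hcomm := (τ.isMulCommutative_of_isCyclic_of_ker_le_center hτ).is_comm.comm
  have hbot : ⁅P.comap σ, P.comap σ⁆ ≤ ⊥ := by
    rw [Subgroup.commutator_le]
    intro u hu v hv
    exact Subgroup.mem_bot.mpr (commutatorElement_eq_one_iff_mul_comm.mpr
      (congrArg Subtype.val (hcomm ⟨u, hu⟩ ⟨v, hv⟩)))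
  exact Subgroup.mem_bot.mp (hbot hz)

/-- Lifts of the elements of a subgroup generated by two elements. -/
theorem mem_lifts (σ : E →* G) {a b : G} {x y : E} (hx : σ x = a) (hy : σ y = b) {P : Subgroup G}
    (hP : P = Subgroup.closure {a, b}) {g : E} (hg : g ∈ P.comap σ) :
    g ∈ Subgroup.closure ({x, y} ∪ (σ.ker : Set E)) := by
  have him : (Subgroup.closure {x, y}).map σ = P := by
    rw [MonoidHom.map_closure, hP, Set.image_pair, hx, hy]
  rw [Subgroup.mem_comap, ← him] at hg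
  obtain ⟨h, hh, e⟩ := hg
  have hk : h⁻¹ * g ∈ σ.ker := by rw [MonoidHom.mem_ker, map_mul, map_inv, e, inv_mul_cancel]
  rw [Subgroup.closure_union, Subgroup.closure_eq, ← mul_inv_cancel_left h g]
  exact Subgroup.mul_mem _ (Subgroup.mem_sup_left hh) (Subgroup.mem_sup_right hk)

/-- Commuting generators of order 3 with an element centralising one and inverting the other. -/
theorem free_inverted (σ : E →* G) (hs : Function.Surjective σ) (hc : σ.ker ≤ center E) {a b n : G}
    (ha : a ^ 3 = 1) (hab : a * b = b * a) (hna : n * a * n⁻¹ = a) (hnb : n * b * n⁻¹ = b⁻¹)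
    {P : Subgroup G} (hP : P = Subgroup.closure {a, b}) :
    ∀ z : E, z ∈ ⁅P.comap σ, P.comap σ⁆ → σ z = 1 → z = 1 := by
  intro z hz _
  obtain ⟨x, rfl⟩ := hs a
  obtain ⟨y, rfl⟩ := hs b
  obtain ⟨m, rfl⟩ := hs n
  have cz : ∀ {k : E}, σ k = 1 → ∀ g, g * k = k * g := fun hk g =>
    Subgroup.mem_center_iff.mp (hc hk) g
  have hee : σ ⁅x, y⁆ = 1 := by
    rw [map_commutatorElement, commutatorElement_eq_one_iff_mul_comm]
    exact hab
  have hce : ∀ g, g * ⁅x, y⁆ = ⁅x, y⁆ * g := cz hee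
  have hinv : ⁅x, y⁆ = ⁅x, y⁻¹⁆ := by
    have h1 : σ (m * x * m⁻¹) = σ x := by simpa using hna
    have h2 : σ (m * y * m⁻¹) = σ y⁻¹ := by simpa using hnb
    calc ⁅x, y⁆ = m * ⁅x, y⁆ * m⁻¹ := by rw [hce m, mul_inv_cancel_right]
      _ = ⁅m * x * m⁻¹, m * y * m⁻¹⁆ := by simp only [commutatorElement_def]; group
      _ = ⁅x, y⁻¹⁆ := by
        rw [CfsgLib.Known.SL2Lift.comm_central_left hc h1,
          CfsgLib.Known.SL2Lift.comm_central_right hc h2]
  have hsq : ⁅x, y⁆ * ⁅x, y⁆ = 1 := by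
    have e : ⁅x, y⁻¹⁆ = y⁻¹ * ⁅x, y⁆⁻¹ * y := by simp only [commutatorElement_def]; group
    have e2 : y⁻¹ * ⁅x, y⁆⁻¹ * y = ⁅x, y⁆⁻¹ := by
      rw [mul_assoc, ← (Commute.inv_right (hce y : Commute y ⁅x, y⁆)).eq, inv_mul_cancel_left]
    rw [e, e2] at hinv
    exact mul_eq_one_iff_eq_inv.mpr hinv
  have hcube : ⁅x, y⁆ ^ 3 = 1 := by
    have hr : x * y = ⁅x, y⁆ * (y * x) := by simp only [commutatorElement_def]; group
    have h3 : y * x ^ 3 = x ^ 3 * y := cz (by rw [map_pow, ha]) y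
    have e : ∀ k : ℕ, x ^ k * y = ⁅x, y⁆ ^ k * (y * x ^ k) := by
      intro k
      induction k with
      | zero => simp
      | succ k ih =>
        rw [pow_succ', mul_assoc, ih, ← mul_assoc x, (Commute.pow_right (hce x : Commute x _) k).eq,
          mul_assoc, ← mul_assoc x y, hr, ← mul_assoc, ← mul_assoc, ← pow_succ, mul_assoc, mul_assoc,
          ← pow_succ']
    have h := e 3
    rw [← h3] at h
    exact mul_eq_right.mp h.symm
  have hone : ⁅x, y⁆ = 1 := by
    rw [pow_succ, pow_two, hsq, one_mul] at hcube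
    exact hcube
  have hxy : x * y = y * x := commutatorElement_eq_one_iff_mul_comm.mp hone
  have hbot : ⁅P.comap σ, P.comap σ⁆ ≤ ⊥ := by
    have hS : ∀ u ∈ ({x, y} ∪ (σ.ker : Set E)), ∀ v ∈ ({x, y} ∪ (σ.ker : Set E)), u * v = v * u := by
      rintro u ((rfl | rfl) | hu) v ((rfl | rfl) | hv)
      all_goals first
        | rfl
        | exact hxy
        | exact hxy.symm
        | exact cz hv _
        | exact (cz hu _).symm
    have hcl : Subgroup.closure ({x, y} ∪ (σ.ker : Set E)) ≤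
        Subgroup.centralizer (Subgroup.closure ({x, y} ∪ (σ.ker : Set E)) : Set E) := by
      rw [Subgroup.closure_le]
      intro u hu
      rw [SetLike.mem_coe, Subgroup.mem_centralizer_iff]
      intro v hv
      have : Subgroup.closure ({x, y} ∪ (σ.ker : Set E)) ≤ Subgroup.centralizer {u} := by
        rw [Subgroup.closure_le]
        intro w hw
        exact Subgroup.mem_centralizer_singleton_iff.mpr (hS w hw u hu)
      exact Subgroup.mem_centralizer_singleton_iff.mp (this hv)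
    rw [Subgroup.commutator_le]
    intro u hu v hv
    refine Subgroup.mem_bot.mpr (commutatorElement_eq_one_iff_mul_comm.mpr ?_)
    exact (Subgroup.mem_centralizer_iff.mp (hcl (mem_lifts σ rfl rfl hP hu)) v
      (mem_lifts σ rfl rfl hP hv)).symm
  exact Subgroup.mem_bot.mp (hbot hz)

/-- A semidihedral group of order 16 is stem free. -/
theorem free_semidihedral [Finite E] (σ : E →* G) (hs : Function.Surjective σ) (hc : σ.ker ≤ center E)
    {a b : G} (ha : orderOf a = 8) (hb : b ^ 2 = 1) (hba : b * a * b⁻¹ = a ^ 3)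
    {P : Subgroup G} (hP : P = Subgroup.closure {a, b}) :
    ∀ z : E, z ∈ ⁅P.comap σ, P.comap σ⁆ → σ z = 1 → z = 1 := by
  intro z hz hz1
  obtain ⟨x, rfl⟩ := hs a
  obtain ⟨y, rfl⟩ := hs b
  have cz : ∀ {k : E}, σ k = 1 → ∀ g, g * k = k * g := fun hk g =>
    Subgroup.mem_center_iff.mp (hc hk) g
  obtain ⟨z0, hz0, hconj⟩ : ∃ z0, σ z0 = 1 ∧ y * x * y⁻¹ = x ^ 3 * z0 := by
    refine ⟨(x ^ 3)⁻¹ * (y * x * y⁻¹), ?_, by rw [mul_inv_cancel_left]⟩
    rw [map_mul, map_inv, map_pow, map_mul, map_mul, map_inv, hba, inv_mul_cancel]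
  set c := x ^ 2 * z0 with hc'
  have z0c : ∀ g, g * z0 = z0 * g := cz hz0
  have hcx : x * c = c * x := by
    rw [hc', ← mul_assoc, ← pow_succ', pow_succ, mul_assoc _ x, z0c x, ← mul_assoc]
  have hyc : y * c * y⁻¹ = c ^ 3 := by
    have e : y * c * y⁻¹ = (y * x * y⁻¹) ^ 2 * (y * z0 * y⁻¹) := by rw [hc', pow_two, pow_two]; group
    rw [e, hconj, z0c y, mul_inv_cancel_right, Commute.mul_pow (z0c _ : Commute (x ^ 3) z0), hc',
      Commute.mul_pow (z0c _ : Commute (x ^ 2) z0), ← pow_mul, ← pow_mul, mul_assoc, ← pow_succ]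
  have hy2 : σ (y ^ 2) = 1 := by rw [map_pow]; exact hb
  have hc4 : c ^ 4 = 1 := by
    have e1 : y ^ 2 * x * (y ^ 2)⁻¹ = x := by rw [← cz hy2 x, mul_inv_cancel_right]
    have e2 : y ^ 2 * x * (y ^ 2)⁻¹ = x ^ 9 * z0 ^ 4 := by
      calc y ^ 2 * x * (y ^ 2)⁻¹ = y * (y * x * y⁻¹) * y⁻¹ := by rw [pow_two]; group
        _ = (y * x * y⁻¹) ^ 3 * (y * z0 * y⁻¹) := by rw [conj_pow, hconj]; group
        _ = x ^ 9 * z0 ^ 4 := by
          rw [hconj, z0c y, mul_inv_cancel_right, Commute.mul_pow (z0c _ : Commute (x ^ 3) z0),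
            ← pow_mul, mul_assoc, ← pow_succ]
    rw [e1] at e2
    rw [hc', Commute.mul_pow (z0c _ : Commute (x ^ 2) z0), ← pow_mul]
    rw [pow_succ' x 8, mul_assoc] at e2
    exact mul_eq_left.mp e2.symm
  have hy2c : y⁻¹ * c * y = c ^ 3 := by
    have e1 : y ^ 2 * c * (y ^ 2)⁻¹ = c := by rw [← cz hy2 c, mul_inv_cancel_right]
    calc y⁻¹ * c * y = y⁻¹ * (y ^ 2 * c * (y ^ 2)⁻¹) * y := by rw [e1]
      _ = y * c * y⁻¹ := by rw [pow_two]; group
      _ = c ^ 3 := hyc
  set N := Subgroup.zpowers c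
  let S : Set E := {x, y} ∪ (σ.ker : Set E)
  let R := Subgroup.closure S
  have hnorm : R ≤ Subgroup.normalizer (N : Set E) := by
    rw [Subgroup.closure_le]
    have key : ∀ s : E, s * c * s⁻¹ ∈ N → s⁻¹ * c * s ∈ N → s ∈ Subgroup.normalizer (N : Set E) := by
      intro s h1 h2
      rw [Subgroup.mem_normalizer_iff]
      intro w
      constructor
      · intro hw
        obtain ⟨k, rfl⟩ := Subgroup.mem_zpowers_iff.mp hw
        rw [← conj_zpow]
        exact zpow_mem h1 k
      · intro hw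
        obtain ⟨k, hk⟩ := Subgroup.mem_zpowers_iff.mp hw
        have e : w = (s⁻¹ * c * s) ^ k := by
          have h := conj_zpow (i := k) (a := s⁻¹) (b := c)
          rw [inv_inv] at h
          rw [h, hk]; group
        rw [e]
        exact zpow_mem h2 k
    rintro s ((rfl | rfl) | hk)
    · refine key _ ?_ ?_
      · rw [hcx, mul_inv_cancel_right]; exact Subgroup.mem_zpowers c
      · rw [mul_assoc, ← hcx, inv_mul_cancel_left]; exact Subgroup.mem_zpowers c
    · refine key _ ?_ ?_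
      · rw [hyc]; exact pow_mem (Subgroup.mem_zpowers c) 3
      · rw [hy2c]; exact pow_mem (Subgroup.mem_zpowers c) 3
    · refine key _ ?_ ?_
      · rw [← cz hk c, mul_inv_cancel_right]; exact Subgroup.mem_zpowers c
      · rw [mul_assoc, cz hk c, inv_mul_cancel_left]; exact Subgroup.mem_zpowers c
  have hcom : ∀ u ∈ R, ∀ v ∈ R, ⁅u, v⁆ ∈ N := by
    let N' : Subgroup R := N.subgroupOf R
    have : N'.Normal := Subgroup.normal_subgroupOf_iff_le_normalizer (by
      rw [Subgroup.zpowers_le, hc']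
      exact Subgroup.mul_mem _ (pow_mem (Subgroup.subset_closure (by simp [S])) 2)
        (Subgroup.subset_closure (Or.inr hz0))) |>.mpr hnorm
    let f : R →* R ⧸ N' := QuotientGroup.mk' N'
    have hSR : ∀ s : S, (s : E) ∈ R := fun s => Subgroup.subset_closure s.2
    have base : ∀ s t : S, Commute (f ⟨s, hSR s⟩) (f ⟨t, hSR t⟩) := by
      intro s t
      rw [commute_iff_eq, ← commutatorElement_eq_one_iff_mul_comm, ← map_commutatorElement]
      refine (QuotientGroup.eq_one_iff _).mpr ?_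
      rw [Subgroup.mem_subgroupOf]
      show ⁅(s : E), (t : E)⁆ ∈ N
      have hyx : ⁅y, x⁆ = c := by
        rw [commutatorElement_def, hconj, hc', mul_assoc, ← z0c x⁻¹, ← mul_assoc, pow_succ x 2,
          mul_inv_cancel_right]
      obtain ⟨s, (rfl | rfl) | hs'⟩ := s <;> obtain ⟨t, (rfl | rfl) | ht⟩ := t
      all_goals first
        | (rw [commutatorElement_eq_one_iff_mul_comm.mpr rfl]; exact one_mem N)
        | (rw [hyx]; exact Subgroup.mem_zpowers c)
        | (rw [← commutatorElement_inv, hyx]; exact inv_mem (Subgroup.mem_zpowers c))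
        | (rw [commutatorElement_eq_one_iff_mul_comm.mpr (cz ht _)]; exact one_mem N)
        | (rw [commutatorElement_eq_one_iff_mul_comm.mpr (cz hs' _).symm]; exact one_mem N)
    have hall : ∀ u v : R, Commute (f u) (f v) := by
      have h1 : ∀ (s : S) (v : R), Commute (f ⟨s, hSR s⟩) (f v) := by
        rintro s ⟨v, hv⟩
        induction hv using Subgroup.closure_induction with
        | mem w hw => exact base s ⟨w, hw⟩
        | one => show Commute _ (f 1); rw [map_one]; exact Commute.one_right _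
        | mul w w' hw hw' i1 i2 =>
          show Commute _ (f (⟨w, hw⟩ * ⟨w', hw'⟩)); rw [map_mul]; exact i1.mul_right i2
        | inv w hw i1 => show Commute _ (f (⟨w, hw⟩⁻¹)); rw [map_inv]; exact i1.inv_right
      rintro ⟨u, hu⟩ v
      induction hu using Subgroup.closure_induction with
      | mem w hw => exact h1 ⟨w, hw⟩ v
      | one => show Commute (f 1) _; rw [map_one]; exact Commute.one_left _
      | mul w w' hw hw' i1 i2 =>
        show Commute (f (⟨w, hw⟩ * ⟨w', hw'⟩)) _; rw [map_mul]; exact i1.mul_left i2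
      | inv w hw i1 => show Commute (f (⟨w, hw⟩⁻¹)) _; rw [map_inv]; exact i1.inv_left
    intro u hu v hv
    have h := commutatorElement_eq_one_iff_mul_comm.mpr (hall ⟨u, hu⟩ ⟨v, hv⟩).eq
    rw [← map_commutatorElement] at h
    exact Subgroup.mem_subgroupOf.mp ((QuotientGroup.eq_one_iff (N := N') ⁅(⟨u, hu⟩ : R), (⟨v, hv⟩ : R)⁆).mp h)
  have hzN : z ∈ N := by
    refine (show ⁅P.comap σ, P.comap σ⁆ ≤ N from ?_) hz
    rw [Subgroup.commutator_le]
    exact fun u hu v hv => hcom u (mem_lifts σ rfl rfl hP hu) v (mem_lifts σ rfl rfl hP hv)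
  obtain ⟨k, rfl⟩ := Subgroup.mem_zpowers_iff.mp hzN
  have h8 : σ x ^ (2 * k) = 1 := by
    have h := hz1
    rw [map_zpow, hc', map_mul, hz0, mul_one, map_pow, ← zpow_natCast, ← zpow_mul] at h
    exact h
  have hdvd : (8 : ℤ) ∣ 2 * k := by
    have h := orderOf_dvd_iff_zpow_eq_one.mpr h8
    rwa [ha] at h
  obtain ⟨j, rfl⟩ : (4 : ℤ) ∣ k := by omega
  have : c ^ (4 : ℤ) = 1 := by exact_mod_cast hc4
  rw [zpow_mul, this, one_zpow]

end CfsgLib.Schur.LocalKill
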