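import Cfsg.Agent.Lib.M24Cert.Enum

/-!
# Elements of the group on 24 points transporting one permutation to another

An element is built cycle by cycle; words of the code inside the points already placed prune the
search.
-/

set_option autoImplicit false

namespace CfsgLib.MathieuOut

open Cfsg CfsgLib.Golay CfsgLib.M24Cert

open scoped Pointwise

/-- The value of a partial map, out of range if there is none. -/
noncomputable def valA (asg : List (ℕ × ℕ)) (i : ℕ) : ℕ :=
  List.rec (motive := fun _ => ℕ) 24 (fun p _ ih => cond (Nat.beq i p.1) p.2 ih) asg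

/-- The image of a mask under a partial map. -/
noncomputable def imgA (asg : List (ℕ × ℕ)) (o : ℕ) : ℕ :=
  List.rec (motive := fun _ => ℕ) 0
    (fun p _ ih => Nat.lor (cond (o.testBit p.1) (2 ^ p.2) 0) ih) asg

/-- All points of a mask are placed. -/
noncomputable def domB (asg : List (ℕ × ℕ)) (o : ℕ) : Bool :=
  allLt (fun i => !(o.testBit i) || anyB (fun p => Nat.beq p.1 i) asg) 24

/-- Place a cycle starting from an image. -/
noncomputable def extendA (Te : List ℕ) (orb : List ℕ) : ℕ → List (ℕ × ℕ) → List (ℕ × ℕ) :=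
  List.rec (motive := fun _ => ℕ → List (ℕ × ℕ) → List (ℕ × ℕ)) (fun _ asg => asg)
    (fun i _ ih a asg => (i, a) :: ih (getR Te a) asg) orb

/-- The images allowed for a point. -/
noncomputable def okA (T Te masks : List ℕ) (asg : List (ℕ × ℕ)) (r a : ℕ) : Bool :=
  allB (fun p => Nat.beq p.1 r || !(Nat.beq p.2 a)) asg &&
    allB (fun m => m.testBit r == m.testBit a) masks &&
    (Nat.beq (getR T r) r == Nat.beq (getR Te a) a)

/-- The search: every completion is in the list. -/
noncomputable def goA (T Te masks : List ℕ) (E : List (List ℕ)) (plan : List (List ℕ × List ℕ)) :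
    List (ℕ × ℕ) → Bool :=
  List.rec (motive := fun _ => List (ℕ × ℕ) → Bool)
    (fun asg => anyB (fun L => allLt (fun i => Nat.beq (valA asg i) (getR L i)) 24) E)
    (fun st _ ih asg => allLt (fun a => !(okA T Te masks asg (getR st.1 0) a) ||
      (let asg' := extendA Te st.1 a asg
       allB (fun o => Nat.blt o 16777216 && inCodeT o && domB asg' o) st.2 &&
         (!(allB (fun o => inCodeT (imgA asg' o)) st.2) || ih asg'))) 24) plan

/-- Successive points are images under the permutation. -/
noncomputable def chainB (T : List ℕ) (orb : List ℕ) : Bool :=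
  allB (fun i => Nat.blt i 24) orb && allLt (fun k => Nat.ble orb.length (k + 1) ||
    Nat.beq (getR T (getR orb k)) (getR orb (k + 1))) orb.length

/-- The check of a plan. -/
noncomputable def planB (T : List ℕ) (plan : List (List ℕ × List ℕ)) : Bool :=
  allB (fun st => Nat.blt 0 st.1.length && chainB T st.1) plan

theorem inCodeT_of_mem {n : ℕ} (h : n ∈ golayList) : inCodeT n = true :=
  forall_golayList (P := inCodeT) (by decide +kernel) n h

/-- The partial map describes the element. -/
def Agrees (x : Equiv.Perm GolayPt) (asg : List (ℕ × ℕ)) : Prop :=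
  ∀ p ∈ asg, p.1 < 24 ∧ p.2 < 24 ∧ x (pt p.1) = pt p.2

theorem valA_spec {x : Equiv.Perm GolayPt} : ∀ {asg : List (ℕ × ℕ)}, Agrees x asg →
    ∀ {i b : ℕ}, valA asg i = b → b < 24 → x (pt i) = pt b
  | [], _, i, b, h, hb => by simp only [valA] at h; omega
  | p :: asg, hA, i, b, h, hb => by
    change cond (Nat.beq i p.1) p.2 (valA asg i) = b at h
    cases e : Nat.beq i p.1 with
    | true =>
      rw [e] at h
      obtain ⟨-, -, h3⟩ := hA p List.mem_cons_self
      rw [Nat.eq_of_beq_eq_true e, h3]
      exact congrArg pt h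
    | false =>
      rw [e] at h
      exact valA_spec (fun q hq => hA q (List.mem_cons_of_mem _ hq)) h hb

theorem imgA_spec (x : Equiv.Perm GolayPt) (o : ℕ) : ∀ {asg : List (ℕ × ℕ)}, Agrees x asg →
    imgA asg o < 16777216 ∧ ∀ j < 24, (imgA asg o).testBit j = true ↔
      ∃ p ∈ asg, o.testBit p.1 = true ∧ p.2 = j
  | [], _ => ⟨by simp [imgA], fun j _ => by simp [imgA]⟩
  | p :: asg, hA => by
    obtain ⟨h1, h2⟩ := imgA_spec x o (asg := asg) fun q hq => hA q (List.mem_cons_of_mem _ hq)
    obtain ⟨-, hp2, -⟩ := hA p List.mem_cons_self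
    have e : imgA (p :: asg) o = (cond (o.testBit p.1) (2 ^ p.2) 0) ||| imgA asg o := rfl
    rw [e]
    refine ⟨?_, fun j hj => ?_⟩
    · refine Nat.or_lt_two_pow (n := 24) ?_ h1
      cases o.testBit p.1
      · exact Nat.two_pow_pos _
      · exact Nat.pow_lt_pow_right (by norm_num) hp2
    · rw [Nat.testBit_lor, Bool.or_eq_true, h2 j hj]
      simp only [List.mem_cons, exists_eq_or_imp]
      cases hb : o.testBit p.1 <;> simp [Nat.testBit_two_pow]

theorem img_inCode {x : Equiv.Perm GolayPt} (hx : x ∈ M24) {asg : List (ℕ × ℕ)} (hA : Agrees x asg)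
    {o : ℕ} (ho : o < 16777216) (hc : inCodeT o = true) (hd : domB asg o = true) :
    inCodeT (imgA asg o) = true := by
  obtain ⟨hlt, hbit⟩ := imgA_spec x o hA
  have he : x • toSet o = toSet (imgA asg o) := by
    ext q
    obtain ⟨j, hj, rfl⟩ := exists_pt q
    rw [pt_mem_toSet hj, hbit j hj, Finset.mem_smul_finset]
    constructor
    · rintro ⟨q, hq, e⟩
      obtain ⟨i, hi, rfl⟩ := exists_pt q
      rw [pt_mem_toSet hi] at hq
      have h := allLt_spec hd i hi
      rw [hq, Bool.not_true, Bool.false_or, anyB_iff] at h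
      obtain ⟨p, hp, hpi⟩ := h
      obtain ⟨-, h2, h3⟩ := hA p hp
      rw [Nat.eq_of_beq_eq_true hpi] at h3
      refine ⟨p, hp, ?_, pt_inj h2 hj (h3.symm.trans e)⟩
      rw [Nat.eq_of_beq_eq_true hpi]
      exact hq
    · rintro ⟨p, hp, hb, rfl⟩
      obtain ⟨h1, -, h3⟩ := hA p hp
      exact ⟨pt p.1, (pt_mem_toSet h1).2 hb, h3⟩
  obtain ⟨n, hn, hn'⟩ := mem_supports.1
    (supports_smul hx (mem_supports.2 ⟨o, mem_golayList_of_inCodeT hc, rfl⟩))
  have hn24 : n < 16777216 := forall_golayList (P := fun m => Nat.blt m 16777216)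
    (by decide +kernel) n hn |> Nat.le_of_ble_eq_true
  rw [he] at hn'
  rw [toSet_inj hlt hn24 (by rw [hn'])]
  exact inCodeT_of_mem hn

theorem extendA_spec {x : Equiv.Perm GolayPt} {T Te : List ℕ} (hTe : validL 24 Te = true)
    (hx : ∀ i < 24, ∀ b < 24, x (pt i) = pt b → x (pt (getR T i)) = pt (getR Te b)) :
    ∀ {orb : List ℕ}, (∀ i ∈ orb, i < 24) →
      (∀ k, k + 1 < orb.length → getR T (getR orb k) = getR orb (k + 1)) →
      ∀ {a : ℕ} {asg : List (ℕ × ℕ)}, a < 24 → (0 < orb.length → x (pt (getR orb 0)) = pt a) →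
        Agrees x asg → Agrees x (extendA Te orb a asg)
  | [], _, _, _, _, _, _, hA => hA
  | i :: orb, hlt, hch, a, asg, ha, h0, hA => by
    have hi := hlt i List.mem_cons_self
    have ha' : getR Te a < 24 := by rw [getR_eq]; exact validL_getD_lt hTe ha
    have hrest : Agrees x (extendA Te orb (getR Te a) asg) := by
      refine extendA_spec hTe hx (fun j hj => hlt j (List.mem_cons_of_mem _ hj))
        (fun k hk => by
          have h := hch (k + 1) (by simp only [List.length_cons]; omega)
          rw [getR_eq, getR_eq, getR_eq] at h ⊢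
          simpa [List.getD_cons_succ] using h) ha' (fun h => ?_) hA
      have h1 := hx i hi a ha (by simpa [getR_eq] using h0 (by simp))
      have h2 := hch 0 (by simp only [List.length_cons]; omega)
      rw [getR_eq (i :: orb), getR_eq (i :: orb), List.getD_cons_zero, List.getD_cons_succ] at h2
      rw [h2, ← getR_eq] at h1
      exact h1
    intro p hp
    rcases List.mem_cons.1 (show p ∈ (i, a) :: extendA Te orb (getR Te a) asg from hp) with rfl | hp
    · exact ⟨hi, ha, by simpa [getR_eq] using h0 (by simp)⟩
    · exact hrest p hp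

/-- Soundness of the search. -/
theorem goA_spec {x : Equiv.Perm GolayPt} (hx24 : x ∈ M24) {T Te masks : List ℕ}
    (hT : validL 24 T = true) (hTe : validL 24 Te = true)
    (hx : ∀ i < 24, ∀ b < 24, x (pt i) = pt b → x (pt (getR T i)) = pt (getR Te b))
    (hmask : ∀ m ∈ masks, x • toSet m = toSet m) {E : List (List ℕ)} :
    ∀ {plan : List (List ℕ × List ℕ)} {asg : List (ℕ × ℕ)}, planB T plan = true →
      goA T Te masks E plan asg = true → (∀ L ∈ E, validL 24 L = true) → Agrees x asg →
      ∃ L ∈ E, x = pL L
  | [], asg, _, h, hE, hA => by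
    obtain ⟨L, hL, h'⟩ := anyB_iff.1 h
    refine ⟨L, hL, Equiv.ext fun q => ?_⟩
    obtain ⟨i, hi, rfl⟩ := exists_pt q
    rw [pL_pt (hE L hL) hi]
    have e := Nat.eq_of_beq_eq_true (allLt_spec h' i hi)
    refine valA_spec hA (e.trans (getR_eq L i)) (validL_getD_lt (hE L hL) hi)
  | st :: plan, asg, hp, h, hE, hA => by
    have hp' : (Nat.blt 0 st.1.length && chainB T st.1) = true ∧ planB T plan = true := by
      have h0 : ((Nat.blt 0 st.1.length && chainB T st.1) && planB T plan) = true := hp
      rw [Bool.and_eq_true] at h0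
      exact h0
    obtain ⟨hst, hp⟩ := hp'
    simp only [chainB, Bool.and_eq_true, allB_iff, Nat.blt_eq] at hst
    obtain ⟨hlen, hlt, hch⟩ := hst
    have hr : getR st.1 0 < 24 := by
      rw [getR_eq, List.getD_eq_getElem _ _ hlen]; exact hlt _ (List.getElem_mem _)
    obtain ⟨a, ha, hxa⟩ := exists_pt (x (pt (getR st.1 0)))
    change allLt (fun a => !(okA T Te masks asg (getR st.1 0) a) ||
      (allB (fun o => Nat.blt o 16777216 && inCodeT o && domB (extendA Te st.1 a asg) o) st.2 &&
        (!(allB (fun o => inCodeT (imgA (extendA Te st.1 a asg) o)) st.2) ||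
          goA T Te masks E plan (extendA Te st.1 a asg)))) 24 = true at h
    have hstep : (!(okA T Te masks asg (getR st.1 0) a) ||
      (allB (fun o => Nat.blt o 16777216 && inCodeT o && domB (extendA Te st.1 a asg) o) st.2 &&
        (!(allB (fun o => inCodeT (imgA (extendA Te st.1 a asg) o)) st.2) ||
          goA T Te masks E plan (extendA Te st.1 a asg)))) = true := allLt_spec h a ha
    have hok : okA T Te masks asg (getR st.1 0) a = true := by
      simp only [okA, Bool.and_eq_true, allB_iff, Bool.or_eq_true, Bool.not_eq_true', beq_iff_eq]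
      refine ⟨⟨fun p hp => ?_, fun m hm => ?_⟩, ?_⟩
      · by_cases hpr : p.1 = getR st.1 0
        · exact Or.inl (by rw [hpr]; exact Nat.beq_refl _)
        · refine Or.inr (Bool.eq_false_iff.2 fun e => hpr ?_)
          obtain ⟨h1, h2, h3⟩ := hA p hp
          rw [Nat.eq_of_beq_eq_true e, hxa] at h3
          exact pt_inj h1 hr (x.injective h3)
      · have hiff : m.testBit (getR st.1 0) = true ↔ m.testBit a = true := by
          rw [← pt_mem_toSet hr, ← pt_mem_toSet ha, hxa]
          constructor
          · intro hh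
            rw [← hmask m hm]
            exact Finset.smul_mem_smul_finset hh
          · intro hh
            rw [← hmask m hm, ← Equiv.Perm.smul_def, Finset.smul_mem_smul_finset_iff] at hh
            exact hh
        exact Bool.eq_iff_iff.2 hiff
      · rw [Bool.eq_iff_iff, Nat.beq_eq, Nat.beq_eq]
        have h1 := hx _ hr a ha hxa.symm
        have hTr : getR T (getR st.1 0) < 24 := by rw [getR_eq]; exact validL_getD_lt hT hr
        have hTa : getR Te a < 24 := by rw [getR_eq]; exact validL_getD_lt hTe ha
        constructor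
        · intro e
          rw [e, ← hxa] at h1
          exact pt_inj hTa ha h1.symm
        · intro e
          rw [e, hxa] at h1
          exact pt_inj hTr hr (x.injective h1)
    rw [hok, Bool.not_true, Bool.false_or, Bool.and_eq_true] at hstep
    obtain ⟨hchk, hrest⟩ := hstep
    have hA' : Agrees x (extendA Te st.1 a asg) := extendA_spec hTe hx hlt (fun k hk => by
      have h' := allLt_spec hch k (by omega)
      rw [Bool.or_eq_true, Nat.ble_eq, Nat.beq_eq] at h'
      exact h'.resolve_left (by omega)) ha (fun _ => hxa.symm) hA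
    have hall : allB (fun o => inCodeT (imgA (extendA Te st.1 a asg) o)) st.2 = true := by
      rw [allB_iff]
      intro o ho
      have h' := allB_iff.1 hchk o ho
      simp only [Bool.and_eq_true, Nat.blt_eq] at h'
      exact img_inCode hx24 hA' h'.1.1 h'.1.2 h'.2
    rw [hall, Bool.not_true, Bool.false_or] at hrest
    exact goA_spec hx24 hT hTe hx hmask hp hrest hE hA'

end CfsgLib.MathieuOut
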