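import Cfsg.Agent.Lib.MathieuOut.Groups
import Mathlib.GroupTheory.Sylow

/-!
# Forcing a subgroup to contain a Sylow normaliser of the whole group
-/

set_option autoImplicit false

namespace CfsgLib.MathieuOut.Index

open Cfsg CfsgLib.Golay CfsgLib.M24Cert

/-- All transporters of an element to its nontrivial powers are listed. -/
noncomputable def normB (masks T : List ℕ) (p : ℕ) (plan : List (List ℕ × List ℕ))
    (E : List (ℕ × List (List ℕ))) : Bool :=
  planB T plan && memG masks T && eqB (powL T p) (List.range 24) && !(eqB T (List.range 24)) &&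
    allLt (fun k => Nat.beq k 0 ||
      anyB (fun e => Nat.beq e.1 k && goA T (powL T k) masks e.2 plan []) E) p &&
    allB (fun e => allB (fun L => memG masks L) e.2) E

/-- A conjugate of a subgroup contains a given element of prime order. -/
theorem exists_conj_mem {G H : Subgroup (Equiv.Perm GolayPt)} (hHG : H ≤ G) {x : Equiv.Perm GolayPt}
    (hx : x ∈ G) {p : ℕ} [Fact p.Prime] (hxp : orderOf x = p) (hdvd : p ∣ Nat.card H)
    (hsq : ¬ p ^ 2 ∣ Nat.card G) :
    ∃ g ∈ G, x ∈ H.map (MulAut.conj g).toMonoidHom ∧ H.map (MulAut.conj g).toMonoidHom ≤ G ∧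
      Nat.card ↥(H.map (MulAut.conj g).toMonoidHom) = Nat.card H := by
  have hdvd' : p ∣ Nat.card ↥(H.subgroupOf G) := by
    rwa [Nat.card_congr (Subgroup.subgroupOfEquivOfLe hHG).toEquiv]
  obtain ⟨y, hy⟩ := exists_prime_orderOf_dvd_card' p hdvd'
  let y' : G := y.1
  let x' : G := ⟨x, hx⟩
  have hy' : orderOf y' = p := by rw [← hy, Subgroup.orderOf_coe]
  have hx' : orderOf x' = p := by rw [← hxp, ← Subgroup.orderOf_coe x']
  have syl : ∀ z : G, orderOf z = p → ∃ P : Sylow p G, (P : Subgroup G) = Subgroup.zpowers z :=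
    fun z hz => by
      have hc : Nat.card (Subgroup.zpowers z) = p := by rw [Nat.card_zpowers, hz]
      refine ⟨((IsPGroup.of_card (n := 1) (hc.trans (pow_one p).symm) : IsPGroup p (Subgroup.zpowers z))).toSylow fun h => hsq ?_, rfl⟩
      rw [← Subgroup.card_mul_index (Subgroup.zpowers z), hc, pow_two]
      exact mul_dvd_mul_left p h
  obtain ⟨P, hP⟩ := syl y' hy'
  obtain ⟨Q, hQ⟩ := syl x' hx'
  obtain ⟨g, hg⟩ := MulAction.exists_smul_eq G P Q
  refine ⟨g, g.2, ?_, ?_, Subgroup.card_map_of_injective (MulAut.conj (g : Equiv.Perm GolayPt)).injective⟩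
  · have hmem : x' ∈ (Q : Subgroup G) := hQ ▸ Subgroup.mem_zpowers x'
    rw [← hg, Sylow.coe_subgroup_smul, hP, Subgroup.mem_smul_pointwise_iff_exists] at hmem
    obtain ⟨z, hz, e⟩ := hmem
    refine ⟨z, ?_, congrArg Subtype.val e⟩
    obtain ⟨n, rfl⟩ := Subgroup.mem_zpowers_iff.1 hz
    show (y' ^ n : G).1 ∈ H
    rw [Subgroup.coe_zpow]
    exact zpow_mem y.2 n
  · rintro _ ⟨h, hh, rfl⟩
    exact mul_mem (mul_mem g.2 (hHG hh)) (inv_mem g.2)

/-- If the arithmetic leaves only the whole normaliser, the subgroup contains it. -/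
theorem full_normalizer {G H : Subgroup (Equiv.Perm GolayPt)} {masks : List ℕ} (hG : Cut G masks)
    (hHG : H ≤ G) {T : List ℕ} {p n : ℕ} [Fact p.Prime] {plan : List (List ℕ × List ℕ)}
    {E : List (ℕ × List (List ℕ))} (hB : normB masks T p plan E = true)
    (hlen : (E.flatMap (·.2)).length = n) (hT : pL T ∈ H) (hsq : ¬ p ^ 2 ∣ Nat.card G)
    (hn : ∀ a b : ℕ, a * b = Nat.card H → b ≤ n → a % p = 1 → b = n) :
    n ∣ Nat.card H ∧ ∀ L ∈ E.flatMap (·.2), pL L ∈ H := by
  simp only [normB, Bool.and_eq_true, allB_iff, Bool.not_eq_true'] at hB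
  obtain ⟨⟨⟨⟨⟨hplan, hTm⟩, hTp⟩, hT1⟩, hsearch⟩, hE⟩ := hB
  obtain ⟨hTv, -⟩ := hG.of_test hTm
  have hne : pL T ≠ 1 := fun h => by
    rw [pL_inj hTv validL_range24 (h.trans pL_range.symm), eqB_refl] at hT1
    exact Bool.noConfusion hT1
  have hord : orderOf (pL T) = p :=
    orderOf_eq_prime (by rw [← (pL_powL hTv p).2, eqB_eq hTp, pL_range]) hne
  let t : H := ⟨pL T, hT⟩
  have ht : orderOf t = p := by rw [← hord, ← Subgroup.orderOf_coe t]
  have hc : Nat.card (Subgroup.zpowers t) = p := by rw [Nat.card_zpowers, ht]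
  let P : Sylow p H := (IsPGroup.of_card (n := 1) (by rw [hc, pow_one])).toSylow (fun h => hsq (by
    refine dvd_trans ?_ (Subgroup.card_dvd_of_le hHG)
    rw [← Subgroup.card_mul_index (Subgroup.zpowers t), hc, pow_two]
    exact mul_dvd_mul_left p h))
  have hP : (P : Subgroup H) = Subgroup.zpowers t := rfl
  classical
  let F : Finset (Equiv.Perm GolayPt) := ((E.flatMap (·.2)).map pL).toFinset
  let N := Subgroup.normalizer ((P : Subgroup H) : Set H)
  have hsub : ∀ g : N, (g.1.1 : Equiv.Perm GolayPt) ∈ F := by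
    intro g
    have h1 : g.1 * t * g.1⁻¹ ∈ Subgroup.zpowers t := by
      have := (Subgroup.mem_normalizer_iff.1 g.2 t).1 (hP ▸ Subgroup.mem_zpowers t)
      rwa [hP] at this
    obtain ⟨m, hm⟩ := Subgroup.mem_zpowers_iff.1 h1
    have hk : t ^ (m % (p : ℤ)).toNat = g.1 * t * g.1⁻¹ := by
      rw [← hm, ← zpow_natCast, Int.toNat_of_nonneg (Int.emod_nonneg _ (by
        exact_mod_cast (Fact.out : p.Prime).ne_zero)), ← ht, zpow_mod_orderOf]
    set k := (m % (p : ℤ)).toNat
    have hkp : k < p := by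
      have h := Int.emod_lt_of_pos m (by exact_mod_cast (Fact.out : p.Prime).pos : (0 : ℤ) < p)
      have h0 := Int.emod_nonneg m (by exact_mod_cast (Fact.out : p.Prime).ne_zero : (p : ℤ) ≠ 0)
      rw [← Int.ofNat_lt, Int.toNat_of_nonneg h0]
      exact h
    have hk0 : k ≠ 0 := fun e => by
      rw [e, pow_zero, eq_comm, mul_inv_eq_one, mul_eq_left] at hk
      exact hne (congrArg Subtype.val hk)
    have h2 : g.1.1 * pL T = pL T ^ k * g.1.1 := by
      have h := congrArg Subtype.val (eq_mul_inv_iff_mul_eq.1 hk)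
      exact h.symm
    have h3 := allLt_spec hsearch k hkp
    rw [Bool.or_eq_true, anyB_iff] at h3
    obtain ⟨e, he, he'⟩ := h3.resolve_left fun e => hk0 (Nat.eq_of_beq_eq_true e)
    rw [Bool.and_eq_true] at he'
    obtain ⟨L, hL, eL⟩ := transporters hG hTv k hplan he'.2
      (fun L hL => (hG.of_test (hE e he L hL)).1) (hHG g.1.2) h2
    exact List.mem_toFinset.2 (List.mem_map.2 ⟨L, List.mem_flatMap.2 ⟨e, he, hL⟩, eL.symm⟩)
  have hinj : Function.Injective (fun g : N => (g.1.1 : Equiv.Perm GolayPt)) :=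
    fun a b h => Subtype.ext (Subtype.ext h)
  have hFn : F.card ≤ n := (List.toFinset_card_le _).trans (le_of_eq (by rw [List.length_map, hlen]))
  let _ : Fintype N := Fintype.ofFinite _
  let I : Finset (Equiv.Perm GolayPt) := Finset.univ.image fun g : N => (g.1.1 : Equiv.Perm GolayPt)
  have hI : I.card = Nat.card N := by
    rw [Finset.card_image_of_injective _ hinj, Finset.card_univ, Nat.card_eq_fintype_card]
  have hIF : I ⊆ F := fun x hx => by
    obtain ⟨g, -, rfl⟩ := Finset.mem_image.1 hx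
    exact hsub g
  have hle : Nat.card N ≤ n := hI ▸ (Finset.card_le_card hIF).trans hFn
  have hmul : Nat.card (Sylow p H) * Nat.card N = Nat.card H := by
    rw [P.card_eq_index_normalizer]
    exact Subgroup.index_mul_card _
  have hmod : Nat.card (Sylow p H) % p = 1 := by
    have h := card_sylow_modEq_one p H
    rwa [Nat.ModEq, Nat.mod_eq_of_lt (Fact.out : p.Prime).one_lt] at h
  have hN : Nat.card N = n := hn _ _ hmul hle hmod
  refine ⟨hN ▸ Subgroup.card_subgroup_dvd_card N, fun L hL => ?_⟩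
  have heq : I = F := Finset.eq_of_subset_of_card_le hIF (by rw [hI, hN]; exact hFn)
  have hm : pL L ∈ F := List.mem_toFinset.2 (List.mem_map.2 ⟨L, hL, rfl⟩)
  rw [← heq] at hm
  obtain ⟨g, -, e⟩ := Finset.mem_image.1 hm
  rw [← e]
  exact g.1.2

end CfsgLib.MathieuOut.Index
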