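import Cfsg.Agent.Lib.Fusion.PermSimple

/-!
The normaliser of a certified Sylow 2-subgroup is a 2-group.
-/

set_option autoImplicit false

namespace CfsgLib.MathieuOut

open Cfsg CfsgLib.Golay CfsgLib.Fusion CfsgLib.Fusion.PermCert

open scoped Pointwise

/-- From the certificate of simplicity: the normaliser of a Sylow 2-subgroup is the subgroup. -/
theorem sylow_normalizer_of_cert (K : Subgroup (Equiv.Perm GolayPt)) {test : List ℕ → Bool}
    (htest : ∀ L, validL 24 L = true → test L = true → pOf L ∈ K) {gens : List (List ℕ)}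
    {z : List ℕ} {steps : List FStep} {masks : List ℕ} {l₀ : List ℕ}
    {levels : List (List (List ℕ) × List ℕ × List (ℕ × ℕ))}
    (hmasks : ∀ g ∈ K, ∀ m ∈ masks, g • toSet m = toSet m)
    (hok : certOk test gens z steps masks l₀ levels = true) {m : ℕ}
    (hcard : Nat.card K = 2 ^ gens.length * m) (hm : ¬ 2 ∣ m) (S : Sylow 2 K) :
    Subgroup.normalizer ((S : Subgroup K) : Set K) = (S : Subgroup K) := by
  simp only [certOk, Bool.and_eq_true, List.all_eq_true, decide_eq_true_eq, Bool.or_eq_true,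
    List.any_eq_true] at hok
  obtain ⟨⟨⟨⟨⟨⟨⟨⟨⟨⟨⟨hpoly, hgt⟩, -⟩, -⟩, -⟩, -⟩, -⟩, -⟩, hfix0⟩, horb0⟩, htop⟩, hlev⟩ := hok
  obtain ⟨hE, hgv, hcardS⟩ := elems_spec hpoly
  set S₀ := genBy gens with hS₀
  have hS₀K : S₀ ≤ K := genBy_le fun a ha => htest a (hgv a ha) (hgt a ha)
  set T : Subgroup K := S₀.subgroupOf K with hT
  have hTcard : Nat.card T = 2 ^ gens.length :=
    (Nat.card_congr (Subgroup.subgroupOfEquivOfLe hS₀K).toEquiv).trans hcardS
  have hTp : IsPGroup 2 T := IsPGroup.of_card hTcard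
  have hTi : ¬ 2 ∣ T.index := by
    have h1 := T.card_mul_index
    rw [hTcard, hcard] at h1
    rwa [Nat.eq_of_mul_eq_mul_left (by positivity) h1]
  set S₁ := hTp.toSylow hTi with hS₁
  obtain ⟨k, hk⟩ := MulAction.exists_smul_eq K S₁ S
  have hSconj : (S : Subgroup K) = CfsgLib.Fusion.conjSub k T := by
    rw [← hk]
    rfl
  have hN2 : IsPGroup 2 (Subgroup.normalizer ((S : Subgroup K) : Set K)) := by
    rintro ⟨g, hg⟩
    rw [hSconj, ← CfsgLib.Fusion.conjSub_eq_iff_mem_normalizer] at hg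
    set h : K := k⁻¹ * g * k with hh
    have h1 : CfsgLib.Fusion.conjSub h T = T := by
      rw [hh, mul_assoc, ← CfsgLib.Fusion.conjSub_conjSub, ← CfsgLib.Fusion.conjSub_conjSub, hg,
        CfsgLib.Fusion.conjSub_conjSub, inv_mul_cancel, CfsgLib.Fusion.conjSub_one]
    have hN : (h : Equiv.Perm GolayPt) ∈ Subgroup.normalizer (S₀ : Set (Equiv.Perm GolayPt)) := by
      refine CfsgLib.Fusion.mem_normalizer_of_forall fun y hy => ?_
      have h2 : h * ⟨y, hS₀K hy⟩ * h⁻¹ ∈ CfsgLib.Fusion.conjSub h T :=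
        CfsgLib.Fusion.conj_mem_conjSub (show _ ∈ T from hy)
      rw [h1] at h2
      exact h2
    have hfixle : S₀ ≤ fixSub l₀ := genBy_le fun d hd => fixLabOk_spec (hgv d hd) (hfix0 d hd)
    have hC : ∀ c ∈ gens, validL 24 c = true ∧ pOf c ∈ S₀ := fun c hc => ⟨hgv c hc, mem_genBy hc⟩
    have hresp : Respects l₀ (h : Equiv.Perm GolayPt) :=
      respects_of_normalizer hN hfixle (orbOk_spec hC horb0)
    have h3 := levels_spec hgv hlev hgv le_rfl hC _ hN hN
      (top_fixes htop hresp fun m hm => hmasks _ h.2 m hm)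
    refine ⟨levels.length + 1, Subtype.ext ?_⟩
    have h4 : h ^ 2 ^ (levels.length + 1) = 1 := Subtype.ext (by simpa using h3)
    have h5 : g = k * h * k⁻¹ := by rw [hh]; group
    show g ^ 2 ^ (levels.length + 1) = 1
    rw [h5, conj_pow, h4, mul_one, mul_inv_cancel]
  exact S.is_maximal' hN2 Subgroup.le_normalizer

end CfsgLib.MathieuOut
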