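import Cfsg.Agent.Lib.MathieuOut.TransvecData
import Cfsg.Agent.Lib.Fusion.PermCert

/-!
# The centraliser of an involution with eight fixed points as the centraliser of a transvection
-/

set_option autoImplicit false
set_option maxRecDepth 100000

namespace CfsgLib.MathieuOut.Transvec

open Cfsg CfsgLib.Golay CfsgLib.M24Cert Matrix

open scoped Pointwise

/-- The involution. -/
noncomputable def zP : Equiv.Perm GolayPt := pL zL

/-- Its centraliser. -/
noncomputable def cz : Subgroup (Equiv.Perm GolayPt) := M24 ⊓ Subgroup.centralizer {zP}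

theorem z_facts : m24B zL = true ∧ eqB (compL zL zL) (List.range 24) = true ∧
    zL ≠ List.range 24 ∧ outs.length = 16 ∧ outs.Nodup ∧
    allLt (fun i => memB i outs == !(Nat.beq (getR zL i) i)) 24 = true := by
  refine ⟨?_, ?_, ?_, ?_, ?_, ?_⟩ <;> decide +kernel

theorem zL_valid : validL 24 zL = true := (mem_M24_of_m24B z_facts.1).1

theorem mem_cz {g : Equiv.Perm GolayPt} : g ∈ cz ↔ g ∈ M24 ∧ g * zP = zP * g := by
  rw [cz, Subgroup.mem_inf, Subgroup.mem_centralizer_singleton_iff]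

theorem zP_mem : zP ∈ cz := mem_cz.2 ⟨(mem_M24_of_m24B z_facts.1).2, rfl⟩

/-- An element of the centraliser commutes on numbers. -/
theorem cz_comm {g : Equiv.Perm GolayPt} (hg : g ∈ cz) {i b : ℕ} (hi : i < 24) (hb : b < 24)
    (h : g (pt i) = pt b) : g (pt (getR zL i)) = pt (getR zL b) := by
  have e := congrArg (fun f : Equiv.Perm GolayPt => f (pt i)) (mem_cz.1 hg).2
  simp only [Equiv.Perm.mul_apply, zP] at e
  rw [pL_pt zL_valid hi, ← getR_eq, h, pL_pt zL_valid hb, ← getR_eq] at e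
  exact e

/-- Moved points go to moved points. -/
theorem cz_outs {g : Equiv.Perm GolayPt} (hg : g ∈ cz) {i b : ℕ} (hi : i ∈ outs) (hi24 : i < 24)
    (hb : b < 24) (h : g (pt i) = pt b) : b ∈ outs := by
  have h1 := allLt_spec z_facts.2.2.2.2.2 b hb
  have h2 := allLt_spec z_facts.2.2.2.2.2 i hi24
  rw [memB_iff.2 hi, beq_iff_eq] at h2
  rw [beq_iff_eq] at h1
  by_contra hb'
  rw [show memB b outs = false from Bool.eq_false_iff.2 fun e => hb' (memB_iff.1 e)] at h1
  have hfix : getR zL b = b := Nat.eq_of_beq_eq_true (by simpa using h1.symm)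
  have := cz_comm hg hi24 hb h
  rw [hfix, ← h] at this
  have e := pt_inj (by rw [getR_eq]; exact validL_getD_lt zL_valid hi24) hi24 (g.injective this)
  rw [e, Nat.beq_refl] at h2
  exact Bool.noConfusion h2

theorem card_le_image {K : Subgroup (Equiv.Perm GolayPt)} (q : GolayPt) (S : Finset GolayPt)
    (hS : ∀ g ∈ K, g q ∈ S) :
    Nat.card K ≤ S.card * Nat.card ↥(K ⊓ MulAction.stabilizer (Equiv.Perm GolayPt) q) := by
  classical
  have h := Nat.card_congr (MulAction.orbitProdStabilizerEquivGroup K q)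
  rw [Nat.card_prod] at h
  rw [← h]
  refine Nat.mul_le_mul ?_ (le_of_eq (Nat.card_congr
    { toFun := fun g => ⟨g.1.1, g.1.2, g.2⟩
      invFun := fun g => ⟨⟨g.1, g.2.1⟩, g.2.2⟩
      left_inv := fun g => rfl
      right_inv := fun g => rfl }))
  rw [Nat.card_coe_set_eq]
  refine le_trans (Set.ncard_le_ncard ?_ S.finite_toSet) (le_of_eq (Set.ncard_coe_finset S))
  rintro _ ⟨g, rfl⟩
  exact hS g.1 g.2

/-- The first base point. -/
def b1 : ℕ := basePts.getD 0 0

/-- The second base point. -/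
def b2 : ℕ := basePts.getD 1 0

/-- The third base point. -/
def b3 : ℕ := basePts.getD 2 0

/-- The possible images of the second base point. -/
def outsTwo : List ℕ := outs.filter fun i => i != b1 && i != getR' b1
where
  /-- The image under the involution. -/
  getR' (i : ℕ) : ℕ := zL.getD i 0

/-- The possible images of the third base point. -/
def outsThree : List ℕ := outsTwo.filter fun i => i != b2 && i != zL.getD b2 0

theorem base_facts : b1 ∈ outs ∧ b2 ∈ outsTwo ∧ b3 ∈ outsThree ∧ outsTwo.length = 14 ∧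
    outsThree.length = 12 ∧ b1 < 24 ∧ b2 < 24 ∧ b3 < 24 ∧ (∀ i ∈ outs, i < 24) ∧
    planB zL planThree = true ∧
    allB (fun L => memG [] L) listThree = true ∧ listThree.length = 8 ∧
    goA zL (powL zL 1) [2 ^ b1, 2 ^ b2, 2 ^ b3] listThree planThree [] = true := by
  refine ⟨?_, ?_, ?_, ?_, ?_, ?_, ?_, ?_, ?_, ?_, ?_, ?_, ?_⟩ <;> decide +kernel

/-- Elements of the centraliser fixing the three base points are listed. -/
theorem three_list {g : Equiv.Perm GolayPt} (hg : g ∈ cz) (h1 : g (pt b1) = pt b1)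
    (h2 : g (pt b2) = pt b2) (h3 : g (pt b3) = pt b3) : ∃ L ∈ listThree, g = pL L := by
  obtain ⟨-, -, -, -, -, l1, l2, l3, -, hplan, hlist, -, hgo⟩ := base_facts
  let G : Subgroup (Equiv.Perm GolayPt) := M24 ⊓ (MulAction.stabilizer (Equiv.Perm GolayPt) (pt b1) ⊓
    (MulAction.stabilizer (Equiv.Perm GolayPt) (pt b2) ⊓
      MulAction.stabilizer (Equiv.Perm GolayPt) (pt b3)))
  have hs : ∀ {b : ℕ}, b < 24 → ∀ f : Equiv.Perm GolayPt,
      (f • toSet (2 ^ b) = toSet (2 ^ b) ↔ f (pt b) = pt b) := fun hb f => by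
    rw [CfsgLib.Fusion.PermCert.toSet_two_pow hb, Finset.smul_finset_singleton,
      Finset.singleton_inj, Equiv.Perm.smul_def]
  have hG : Cut G [2 ^ b1, 2 ^ b2, 2 ^ b3] := by
    refine ⟨inf_le_left, fun f hf m hm => ?_, fun f hf h => ⟨hf, ?_, ?_, ?_⟩⟩
    · simp only [List.mem_cons, List.not_mem_nil, or_false] at hm
      rcases hm with rfl | rfl | rfl
      exacts [(hs l1 f).2 hf.2.1, (hs l2 f).2 hf.2.2.1, (hs l3 f).2 hf.2.2.2]
    · exact (hs l1 f).1 (h _ (by simp))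
    · exact (hs l2 f).1 (h _ (by simp))
    · exact (hs l3 f).1 (h _ (by simp))
  refine transporters hG zL_valid 1 hplan hgo (fun L hL => ?_) ⟨(mem_cz.1 hg).1, h1, h2, h3⟩
    (by rw [pow_one]; exact (mem_cz.1 hg).2)
  have := allB_iff.1 hlist L hL
  simp only [memG, Bool.and_eq_true] at this
  exact (mem_M24_of_m24B this.1).1

theorem card_cz_le : Nat.card cz ≤ 21504 := by
  obtain ⟨hb1, hb2, hb3, hl2, hl3, l1, l2, l3, hlt, -, -, hl8, -⟩ := base_facts
  have hsub : ∀ i, i ∈ outsTwo → i ∈ outs ∧ i ≠ b1 ∧ i ≠ zL.getD b1 0 := fun i hi => by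
    simpa [outsTwo, outsTwo.getR', and_assoc] using hi
  have hsub3 : ∀ i, i ∈ outsThree → i ∈ outsTwo ∧ i ≠ b2 ∧ i ≠ zL.getD b2 0 := fun i hi => by
    simpa [outsThree, and_assoc] using hi
  have step : ∀ (K : Subgroup (Equiv.Perm GolayPt)) (b : ℕ) (l : List ℕ), b < 24 →
      (∀ g ∈ K, ∀ a, a < 24 → g (pt b) = pt a → a ∈ l) →
      Nat.card K ≤ l.length * Nat.card ↥(K ⊓ MulAction.stabilizer (Equiv.Perm GolayPt) (pt b)) := by
    intro K b l hb h
    refine (card_le_image (pt b) (l.toFinset.image pt) fun g hg => ?_).trans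
      (Nat.mul_le_mul_right _ (Finset.card_image_le.trans (List.toFinset_card_le l)))
    obtain ⟨a, ha, e⟩ := exists_pt (g (pt b))
    exact Finset.mem_image.2 ⟨a, List.mem_toFinset.2 (h g hg a ha e.symm), e⟩
  have avoid : ∀ {g : Equiv.Perm GolayPt} {b c a : ℕ}, g ∈ cz → b < 24 → c < 24 → a < 24 →
      g (pt c) = pt c → g (pt b) = pt a → b ≠ c → b ≠ zL.getD c 0 →
      a ≠ c ∧ a ≠ zL.getD c 0 := by
    intro g b c a hg hb hc ha hgc hgb h1 h2
    refine ⟨fun e => h1 ?_, fun e => h2 ?_⟩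
    · rw [e, ← hgc] at hgb
      exact pt_inj hb hc (g.injective hgb)
    · have h3 := cz_comm hg hc hc hgc
      rw [getR_eq] at h3
      rw [e, ← h3] at hgb
      exact pt_inj hb (validL_getD_lt zL_valid hc) (g.injective hgb)
  have s1 := step cz b1 outs l1 fun g hg a ha e => cz_outs hg hb1 l1 ha e
  have s2 := step (cz ⊓ MulAction.stabilizer (Equiv.Perm GolayPt) (pt b1)) b2 outsTwo l2
    fun g hg a ha e => by
      obtain ⟨hm, h1, h2⟩ := hsub b2 hb2
      obtain ⟨a1, a2⟩ := avoid hg.1 l2 l1 ha hg.2 e h1 h2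
      rw [List.getD_eq_getElem?_getD] at a2
      simp [outsTwo, outsTwo.getR', cz_outs hg.1 hm l2 ha e, a1, a2]
  have s3 := step (cz ⊓ MulAction.stabilizer (Equiv.Perm GolayPt) (pt b1) ⊓
      MulAction.stabilizer (Equiv.Perm GolayPt) (pt b2)) b3 outsThree l3 fun g hg a ha e => by
      obtain ⟨h0, h3, h4⟩ := hsub3 b3 hb3
      obtain ⟨hm, h1, h2⟩ := hsub b3 h0
      obtain ⟨a1, a2⟩ := avoid hg.1.1 l3 l1 ha hg.1.2 e h1 h2
      obtain ⟨a3, a4⟩ := avoid hg.1.1 l3 l2 ha hg.2 e h3 h4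
      rw [List.getD_eq_getElem?_getD] at a2 a4
      simp [outsThree, outsTwo, outsTwo.getR', cz_outs hg.1.1 hm l3 ha e, a1, a2, a3, a4]
  have s4 : Nat.card ↥(cz ⊓ MulAction.stabilizer (Equiv.Perm GolayPt) (pt b1) ⊓
      MulAction.stabilizer (Equiv.Perm GolayPt) (pt b2) ⊓
      MulAction.stabilizer (Equiv.Perm GolayPt) (pt b3)) ≤ 8 := by
    classical
    rw [← hl8, ← SetLike.coe_sort_coe, Nat.card_coe_set_eq]
    refine le_trans (Set.ncard_le_ncard (t := ↑((listThree.map pL).toFinset)) ?_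
      (Finset.finite_toSet _)) ?_
    · intro g hg
      obtain ⟨L, hL, e⟩ := three_list hg.1.1.1 hg.1.1.2 hg.1.2 hg.2
      exact List.mem_toFinset.2 (List.mem_map.2 ⟨L, hL, e.symm⟩)
    · rw [Set.ncard_coe_finset]
      exact (List.toFinset_card_le _).trans (le_of_eq (List.length_map _))
  rw [z_facts.2.2.2.1] at s1
  rw [hl2] at s2
  rw [hl3] at s3
  calc Nat.card cz ≤ 16 * (14 * (12 * 8)) := s1.trans (Nat.mul_le_mul_left _
        (s2.trans (Nat.mul_le_mul_left _ (s3.trans (Nat.mul_le_mul_left _ s4)))))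
    _ = 21504 := by norm_num

theorem gens_facts : allB (fun L => memG [] L && eqB (compL L zL) (compL zL L)) gens = true ∧
    chainCheck 24 gens steps [] levels = true ∧
    (levels.map fun l => l.imgs.length).prod = 21504 := by
  refine ⟨?_, ?_, ?_⟩ <;> decide +kernel

theorem gens_mem : ∀ L ∈ gens, validL 24 L = true ∧ pL L ∈ cz := fun L hL => by
  have h := allB_iff.1 gens_facts.1 L hL
  simp only [memG, Bool.and_eq_true] at h
  obtain ⟨hv, hm⟩ := mem_M24_of_m24B h.1.1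
  refine ⟨hv, mem_cz.2 ⟨hm, ?_⟩⟩
  have e := congrArg pL (eqB_eq h.2)
  rwa [pL_compL hv zL_valid, pL_compL zL_valid hv] at e

theorem cz_le_closure :
    cz ≤ Subgroup.closure {g | ∃ L ∈ gens, pL L = g} :=
  le_of_gens gens_facts.2.1 (fun L hL => (gens_mem L hL).2) (gens_facts.2.2 ▸ card_cz_le) _
    fun L hL => Subgroup.subset_closure ⟨L, hL, rfl⟩

theorem card_cz : Nat.card cz = 21504 := by
  refine le_antisymm card_cz_le ?_
  have h := chain_card_ge cz (chainCheck_ok gens_facts.2.1)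
    (chainCheck_reps ptEquiv cz gens_facts.2.1 fun g hg => (gens_mem g hg).2)
  rw [fixNums_nil, gens_facts.2.2] at h
  exact h

/-- The affine vector of a code. -/
def vec (c : ℕ) : Fin 5 → ZMod 2 :=
  ![if c.testBit 0 then 1 else 0, 1, if c.testBit 1 then 1 else 0,
    if c.testBit 2 then 1 else 0, if c.testBit 3 then 1 else 0]

/-- The transvection as a matrix. -/
def tv : Matrix (Fin 5) (Fin 5) (ZMod 2) := Matrix.transvection 0 1 1

/-- A matrix records the action of a permutation on the moved points. -/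
def Aff (g : Equiv.Perm GolayPt) (A : Matrix (Fin 5) (Fin 5) (ZMod 2)) : Prop :=
  ∀ c : Fin 16, ∃ d : Fin 16,
    g (pt (ptOf.getD c.val 0)) = pt (ptOf.getD d.val 0) ∧ A *ᵥ vec c.val = vec d.val

theorem Aff.one : Aff 1 1 := fun c => ⟨c, rfl, Matrix.one_mulVec _⟩

theorem Aff.mul {g h : Equiv.Perm GolayPt} {A B : Matrix (Fin 5) (Fin 5) (ZMod 2)}
    (hg : Aff g A) (hh : Aff h B) : Aff (g * h) (A * B) := fun c => by
  obtain ⟨d, h1, h2⟩ := hh c
  obtain ⟨e, h3, h4⟩ := hg d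
  exact ⟨e, by rw [Equiv.Perm.mul_apply, h1, h3], by rw [← Matrix.mulVec_mulVec, h2, h4]⟩

theorem vec_basis :
    (Pi.single 0 1 : Fin 5 → ZMod 2) = vec 1 - vec 0 ∧
    (Pi.single 1 1 : Fin 5 → ZMod 2) = vec 0 ∧
    (Pi.single 2 1 : Fin 5 → ZMod 2) = vec 2 - vec 0 ∧
    (Pi.single 3 1 : Fin 5 → ZMod 2) = vec 4 - vec 0 ∧
    (Pi.single 4 1 : Fin 5 → ZMod 2) = vec 8 - vec 0 := by
  decide +kernel

theorem vec_inj : ∀ c d : Fin 16, vec c.val = vec d.val → c = d := by decide +kernel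

theorem ptOf_facts : (∀ c : Fin 16, ptOf.getD c.val 0 < 24) ∧
    (∀ c d : Fin 16, ptOf.getD c.val 0 = ptOf.getD d.val 0 → c = d) ∧
    (∀ i : Fin 24, i.val ∈ outs → ∃ c : Fin 16, ptOf.getD c.val 0 = i.val) := by
  refine ⟨?_, ?_, ?_⟩ <;> decide +kernel

theorem mat_ext {A B : Matrix (Fin 5) (Fin 5) (ZMod 2)}
    (h : ∀ c : Fin 16, A *ᵥ vec c.val = B *ᵥ vec c.val) : A = B := by
  obtain ⟨v0, v1, v2, v3, v4⟩ := vec_basis
  have g := fun (c : ℕ) (hc : c < 16) => h ⟨c, hc⟩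
  refine Matrix.ext_of_mulVec_single fun j => ?_
  fin_cases j
  · show A *ᵥ Pi.single 0 1 = B *ᵥ Pi.single 0 1
    rw [v0, Matrix.mulVec_sub, Matrix.mulVec_sub, g 1 (by norm_num), g 0 (by norm_num)]
  · show A *ᵥ Pi.single 1 1 = B *ᵥ Pi.single 1 1
    rw [v1, g 0 (by norm_num)]
  · show A *ᵥ Pi.single 2 1 = B *ᵥ Pi.single 2 1
    rw [v2, Matrix.mulVec_sub, Matrix.mulVec_sub, g 2 (by norm_num), g 0 (by norm_num)]
  · show A *ᵥ Pi.single 3 1 = B *ᵥ Pi.single 3 1
    rw [v3, Matrix.mulVec_sub, Matrix.mulVec_sub, g 4 (by norm_num), g 0 (by norm_num)]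
  · show A *ᵥ Pi.single 4 1 = B *ᵥ Pi.single 4 1
    rw [v4, Matrix.mulVec_sub, Matrix.mulVec_sub, g 8 (by norm_num), g 0 (by norm_num)]

theorem Aff.unique {g : Equiv.Perm GolayPt} {A B : Matrix (Fin 5) (Fin 5) (ZMod 2)}
    (hA : Aff g A) (hB : Aff g B) : A = B :=
  mat_ext fun c => by
    obtain ⟨d, h1, h2⟩ := hA c
    obtain ⟨e, h3, h4⟩ := hB c
    rw [h2, h4, ptOf_facts.2.1 d e (pt_inj (ptOf_facts.1 d) (ptOf_facts.1 e) (h1.symm.trans h3))]

/-- The matrix of a generator. -/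
def matOf (k : ℕ) : Matrix (Fin 5) (Fin 5) (ZMod 2) :=
  Matrix.of fun i j => ((((mats.getD k []).getD i.val []).getD j.val 0 : ℕ) : ZMod 2)

theorem gens_aff : ∀ k : Fin gens.length, ∀ c : Fin 16, ∃ d : Fin 16,
    (gens.getD k.val []).getD (ptOf.getD c.val 0) 0 = ptOf.getD d.val 0 ∧
      (matOf k.val) *ᵥ vec c.val = vec d.val := by
  decide +kernel

theorem tv_aff : ∀ c : Fin 16, ∃ d : Fin 16,
    zL.getD (ptOf.getD c.val 0) 0 = ptOf.getD d.val 0 ∧ tv *ᵥ vec c.val = vec d.val := by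
  decide +kernel

theorem aff_z : Aff zP tv := fun c => by
  obtain ⟨d, h1, h2⟩ := tv_aff c
  exact ⟨d, by rw [zP, pL_pt zL_valid (ptOf_facts.1 c), h1], h2⟩

theorem aff_exists {g : Equiv.Perm GolayPt} (hg : g ∈ cz) : ∃ A, Aff g A := by
  have h := cz_le_closure hg
  rw [← Subgroup.mem_toSubmonoid, Subgroup.closure_toSubmonoid_of_finite] at h
  clear hg
  induction h using Submonoid.closure_induction with
  | mem x hx =>
    obtain ⟨L, hL, rfl⟩ := hx
    obtain ⟨k, hk, rfl⟩ := List.getElem_of_mem hL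
    refine ⟨matOf k, fun c => ?_⟩
    obtain ⟨d, h1, h2⟩ := gens_aff ⟨k, hk⟩ c
    rw [List.getD_eq_getElem _ _ hk] at h1
    exact ⟨d, by rw [pL_pt (gens_mem _ hL).1 (ptOf_facts.1 c), h1], h2⟩
  | one => exact ⟨1, Aff.one⟩
  | mul a b _ _ iha ihb =>
    exact ⟨_, iha.choose_spec.mul ihb.choose_spec⟩

end CfsgLib.MathieuOut.Transvec
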