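import Cfsg.Agent.Lib.MathieuOut.Transvec

/-!
# The centraliser as the centraliser of a transvection in `SL(5, 2)`
-/

set_option autoImplicit false
set_option maxRecDepth 100000

namespace CfsgLib.MathieuOut.Transvec

open Cfsg CfsgLib.Golay CfsgLib.M24Cert Matrix

theorem zmod_two_facts :
    (∀ x y : ZMod 2, x * y = 1 → x = 1) ∧ (∀ x : ZMod 2, x ≠ 0 → x = 1) := by
  decide +kernel

theorem aff_det {g : Equiv.Perm GolayPt} {A : Matrix (Fin 5) (Fin 5) (ZMod 2)} (hg : g ∈ cz)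
    (hA : Aff g A) : A.det = 1 := by
  obtain ⟨B, hB⟩ := aff_exists (inv_mem hg)
  have h := hA.mul hB
  rw [mul_inv_cancel] at h
  have e := congrArg Matrix.det (h.unique Aff.one)
  rw [Matrix.det_mul, Matrix.det_one] at e
  exact zmod_two_facts.1 _ _ e

theorem aff_comm {g : Equiv.Perm GolayPt} {A : Matrix (Fin 5) (Fin 5) (ZMod 2)} (hg : g ∈ cz)
    (hA : Aff g A) : A * tv = tv * A := by
  have h := hA.mul aff_z
  rw [(mem_cz.1 hg).2] at h
  exact h.unique (aff_z.mul hA)

/-- The affine representation of the centraliser. -/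
noncomputable def toSL : ↥cz →* Matrix.SpecialLinearGroup (Fin 5) (ZMod 2) :=
  MonoidHom.mk' (fun g => ⟨(aff_exists g.2).choose, aff_det g.2 (aff_exists g.2).choose_spec⟩)
    fun a b => Subtype.ext
      ((aff_exists (a * b).2).choose_spec.unique
        ((aff_exists a.2).choose_spec.mul (aff_exists b.2).choose_spec))

theorem toSL_comm (g : ↥cz) :
    (toSL g : Matrix (Fin 5) (Fin 5) (ZMod 2)) * tv =
      tv * (toSL g : Matrix (Fin 5) (Fin 5) (ZMod 2)) :=
  aff_comm g.2 (aff_exists g.2).choose_spec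

theorem list_only_id : ∀ L ∈ listThree, (∀ i ∈ outs, L.getD i 0 = i) → L = List.range 24 := by
  decide +kernel

theorem toSL_inj : Function.Injective toSL := by
  rw [injective_iff_map_eq_one]
  intro g hg
  have hA : Aff g.1 1 := by
    have h := (aff_exists g.2).choose_spec
    rwa [show (aff_exists g.2).choose = 1 from congrArg Subtype.val hg] at h
  have hfix : ∀ i ∈ outs, g.1 (pt i) = pt i := fun i hi => by
    obtain ⟨c, hc⟩ := ptOf_facts.2.2 ⟨i, base_facts.2.2.2.2.2.2.2.2.1 i hi⟩ hi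
    obtain ⟨d, h1, h2⟩ := hA c
    rw [Matrix.one_mulVec] at h2
    rw [← vec_inj c d h2] at h1
    simp only at hc
    rwa [hc] at h1
  have hb2 : b2 ∈ outs := by decide +kernel
  have hb3 : b3 ∈ outs := by decide +kernel
  obtain ⟨L, hL, e⟩ := three_list g.2 (hfix _ base_facts.1) (hfix _ hb2) (hfix _ hb3)
  have hv : validL 24 L = true := by
    have h := allB_iff.1 base_facts.2.2.2.2.2.2.2.2.2.2.1 L hL
    simp only [memG, Bool.and_eq_true] at h
    exact (mem_M24_of_m24B h.1).1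
  have hid : L = List.range 24 := list_only_id L hL fun i hi => by
    have hi24 := base_facts.2.2.2.2.2.2.2.2.1 i hi
    have h := hfix i hi
    rw [e, pL_pt hv hi24] at h
    exact pt_inj (validL_getD_lt hv hi24) hi24 h
  refine Subtype.ext ?_
  rw [e, hid, Subgroup.coe_one]
  exact pL_range

/-- The first basis vector. -/
def e0 : Fin 5 → ZMod 2 := Pi.single 0 1

theorem vec_facts :
    vec 1 = vec 0 + e0 ∧
    (∀ m ∈ [2, 4, 8], ∀ i < m, vec (m + i) = vec m + vec i - vec 0) ∧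
    (∀ v : Fin 5 → ZMod 2, v 1 = 1 → ∃ d : Fin 16, v = vec d.val) ∧
    (∀ c : Fin 16, vec c.val 1 = 1) := by
  decide +kernel

/-- The matrices commuting with the transvection. -/
def Good (A : Matrix (Fin 5) (Fin 5) (ZMod 2)) : Prop := A.det = 1 ∧ A * tv = tv * A

theorem Good.spec {A : Matrix (Fin 5) (Fin 5) (ZMod 2)} (h : Good A) :
    A *ᵥ e0 = e0 ∧ ∀ v : Fin 5 → ZMod 2, (A *ᵥ v) 1 = v 1 := by
  have e : ∀ a b, (A * tv) a b = (tv * A) a b := fun a b => by rw [h.2]
  have hcol : ∀ a : Fin 5, a ≠ 0 → A a 0 = 0 := fun a ha => by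
    simpa [tv, Matrix.transvection_mul_apply_of_ne _ _ _ _ ha] using e a 1
  have hrow : ∀ b : Fin 5, b ≠ 1 → A 1 b = 0 := fun b hb => by
    simpa [tv, Matrix.mul_transvection_apply_of_ne _ _ _ _ hb] using (e 0 b).symm
  have h00 : A 0 0 = 1 := by
    refine zmod_two_facts.2 _ fun h0 => ?_
    have hd := h.1
    rw [Matrix.det_eq_zero_of_column_eq_zero 0 fun i => ?_] at hd
    · exact zero_ne_one hd
    · by_cases hi : i = 0
      · rw [hi, h0]
      · exact hcol i hi
  have h11 : A 1 1 = 1 := by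
    rw [← h00]
    simpa [tv] using (e 0 1).symm
  refine ⟨?_, fun v => ?_⟩
  · rw [e0, Matrix.mulVec_single_one]
    funext a
    by_cases ha : a = 0
    · subst ha; simpa using h00
    · simpa [ha] using hcol a ha
  · rw [Matrix.mulVec, dotProduct, Finset.sum_eq_single 1]
    · rw [h11, one_mul]
    · intro b _ hb
      rw [hrow b hb, zero_mul]
    · simp

theorem Good.inj {A : Matrix (Fin 5) (Fin 5) (ZMod 2)} (h : Good A) {v w : Fin 5 → ZMod 2}
    (e : A *ᵥ v = A *ᵥ w) : v = w := by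
  have := congrArg (fun x => A.adjugate *ᵥ x) e
  simpa [Matrix.mulVec_mulVec, Matrix.adjugate_mul, h.1] using this

/-- The vectors with second coordinate one. -/
def planeW : Finset (Fin 5 → ZMod 2) := (Finset.univ : Finset (Fin 16)).image fun c => vec c.val

theorem planeW_card : planeW.card = 16 := by
  rw [planeW, Finset.card_image_of_injective _ fun c d h => vec_inj c d h, Finset.card_univ,
    Fintype.card_fin]

theorem Good.mem_planeW {A : Matrix (Fin 5) (Fin 5) (ZMod 2)} (h : Good A) {c : ℕ} (hc : c < 16) :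
    A *ᵥ vec c ∈ planeW := by
  obtain ⟨d, hd⟩ := vec_facts.2.2.1 (A *ᵥ vec c) (by rw [h.spec.2]; exact vec_facts.2.2.2 ⟨c, hc⟩)
  exact Finset.mem_image.2 ⟨d, Finset.mem_univ _, hd.symm⟩

theorem card_step (m : ℕ) (hm : m ∈ [2, 4, 8]) (n : ℕ)
    (S : Finset (Matrix (Fin 5) (Fin 5) (ZMod 2))) (hS : ∀ A ∈ S, Good A)
    (hag : ∀ A ∈ S, ∀ B ∈ S, ∀ i < m, A *ᵥ vec i = B *ᵥ vec i)
    (hfib : ∀ T : Finset (Matrix (Fin 5) (Fin 5) (ZMod 2)), (∀ A ∈ T, Good A) →
      (∀ A ∈ T, ∀ B ∈ T, ∀ i < 2 * m, A *ᵥ vec i = B *ᵥ vec i) → T.card ≤ n) :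
    S.card ≤ n * (16 - m) := by
  classical
  rcases S.eq_empty_or_nonempty with rfl | ⟨A₀, hA₀⟩
  · simp
  have hm16 : m ≤ 8 := by
    simp only [List.mem_cons, List.not_mem_nil, or_false] at hm
    omega
  refine (Finset.card_le_mul_card_image (f := fun A => A *ᵥ vec m) S n fun v _ => ?_).trans
    (Nat.mul_le_mul_left n ?_)
  · refine hfib _ (fun A hA => hS A (Finset.mem_filter.1 hA).1) fun A hA B hB i hi => ?_
    rw [Finset.mem_filter] at hA hB
    rcases Nat.lt_or_ge i m with h | h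
    · exact hag A hA.1 B hB.1 i h
    · obtain ⟨j, rfl⟩ := Nat.exists_eq_add_of_le h
      rw [vec_facts.2.1 m hm j (by omega)]
      simp only [Matrix.mulVec_sub, Matrix.mulVec_add, hA.2, hB.2, hag A hA.1 B hB.1 j (by omega),
        hag A hA.1 B hB.1 0 (by omega)]
  · let X : Finset (Fin 5 → ZMod 2) := (Finset.range m).image fun i => A₀ *ᵥ vec i
    have hX : X.card = m := by
      rw [Finset.card_image_of_injOn, Finset.card_range]
      intro i hi j hj e
      simp only [Finset.coe_range, Set.mem_Iio] at hi hj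
      exact congrArg Fin.val (vec_inj ⟨i, by omega⟩ ⟨j, by omega⟩ ((hS A₀ hA₀).inj e))
    have hXsub : X ⊆ planeW := fun x hx => by
      obtain ⟨i, hi, rfl⟩ := Finset.mem_image.1 hx
      rw [Finset.mem_range] at hi
      exact (hS A₀ hA₀).mem_planeW (by omega)
    have hc : (planeW \ X).card = 16 - m := by
      rw [Finset.card_sdiff_of_subset hXsub, planeW_card, hX]
    refine le_trans (Finset.card_le_card fun x hx => ?_) (le_of_eq hc)
    obtain ⟨A, hA, rfl⟩ := Finset.mem_image.1 hx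
    refine Finset.mem_sdiff.2 ⟨(hS A hA).mem_planeW (by omega), fun h => ?_⟩
    obtain ⟨i, hi, e⟩ := Finset.mem_image.1 h
    rw [Finset.mem_range] at hi
    rw [hag A₀ hA₀ A hA i hi] at e
    have e1 : vec i = vec m := (hS A hA).inj e
    have h1 : i < 16 := by omega
    have h2 : m < 16 := by omega
    have e2 : i = m := congrArg Fin.val (vec_inj ⟨i, h1⟩ ⟨m, h2⟩ e1)
    omega

theorem agree_two {A B : Matrix (Fin 5) (Fin 5) (ZMod 2)} (hA : Good A) (hB : Good B)
    (h0 : A *ᵥ vec 0 = B *ᵥ vec 0) : ∀ i < 2, A *ᵥ vec i = B *ᵥ vec i := by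
  intro i hi
  rcases Nat.lt_or_ge i 1 with h | h
  · rw [Nat.lt_one_iff.1 h]
    exact h0
  · rw [show i = 1 by omega, vec_facts.1, Matrix.mulVec_add, Matrix.mulVec_add, hA.spec.1,
      hB.spec.1, h0]

theorem card_good_le (S : Finset (Matrix (Fin 5) (Fin 5) (ZMod 2))) (hS : ∀ A ∈ S, Good A) :
    S.card ≤ 21504 := by
  classical
  have h16 : ∀ T : Finset (Matrix (Fin 5) (Fin 5) (ZMod 2)), (∀ A ∈ T, Good A) →
      (∀ A ∈ T, ∀ B ∈ T, ∀ i < 2 * 8, A *ᵥ vec i = B *ᵥ vec i) → T.card ≤ 1 := fun T _ h =>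
    Finset.card_le_one.2 fun A hA B hB => mat_ext fun c => h A hA B hB c.val c.isLt
  have h8 : ∀ T : Finset (Matrix (Fin 5) (Fin 5) (ZMod 2)), (∀ A ∈ T, Good A) →
      (∀ A ∈ T, ∀ B ∈ T, ∀ i < 2 * 4, A *ᵥ vec i = B *ᵥ vec i) → T.card ≤ 1 * (16 - 8) :=
    fun T h1 h2 => card_step 8 (by simp) 1 T h1 h2 h16
  have h4 : ∀ T : Finset (Matrix (Fin 5) (Fin 5) (ZMod 2)), (∀ A ∈ T, Good A) →
      (∀ A ∈ T, ∀ B ∈ T, ∀ i < 2 * 2, A *ᵥ vec i = B *ᵥ vec i) →
      T.card ≤ 1 * (16 - 8) * (16 - 4) :=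
    fun T h1 h2 => card_step 4 (by simp) _ T h1 h2 h8
  have himg : (S.image fun A => A *ᵥ vec 0).card ≤ 16 := by
    refine le_trans (Finset.card_le_card fun x hx => ?_) (le_of_eq planeW_card)
    obtain ⟨A, hA, rfl⟩ := Finset.mem_image.1 hx
    exact (hS A hA).mem_planeW (by norm_num)
  refine (Finset.card_le_mul_card_image (f := fun A => A *ᵥ vec 0) S
    (1 * (16 - 8) * (16 - 4) * (16 - 2)) fun v _ => ?_).trans
    (le_trans (Nat.mul_le_mul_left _ himg) (Nat.le_of_eq (by norm_num)))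
  refine card_step 2 (by simp) _ _ (fun A hA => hS A (Finset.mem_filter.1 hA).1)
    (fun A hA B hB => ?_) h4
  rw [Finset.mem_filter] at hA hB
  exact agree_two (hS A hA.1) (hS B hB.1) (hA.2.trans hB.2.symm)

theorem card_centralizer_le (s : Matrix.SpecialLinearGroup (Fin 5) (ZMod 2))
    (hs : (s : Matrix (Fin 5) (Fin 5) (ZMod 2)) = tv) :
    Nat.card ↥(Subgroup.centralizer ({s} : Set (Matrix.SpecialLinearGroup (Fin 5) (ZMod 2)))) ≤
      21504 := by
  classical
  let C := Subgroup.centralizer ({s} : Set (Matrix.SpecialLinearGroup (Fin 5) (ZMod 2)))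
  let _ : Fintype ↥C := Fintype.ofFinite _
  rw [Nat.card_eq_fintype_card, ← Finset.card_univ, ← Finset.card_image_of_injective Finset.univ
    (f := fun A : ↥C => (A.1 : Matrix (Fin 5) (Fin 5) (ZMod 2)))
    fun a b h => Subtype.ext (Subtype.ext h)]
  refine card_good_le _ fun A hA => ?_
  obtain ⟨B, -, rfl⟩ := Finset.mem_image.1 hA
  refine ⟨B.1.2, ?_⟩
  have h := congrArg (fun x : Matrix.SpecialLinearGroup (Fin 5) (ZMod 2) =>
    (x : Matrix (Fin 5) (Fin 5) (ZMod 2))) (Subgroup.mem_centralizer_singleton_iff.1 B.2)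
  simpa [hs] using h

theorem exists_centralizer_iso (s : Matrix.SpecialLinearGroup (Fin 5) (ZMod 2))
    (hs : (s : Matrix (Fin 5) (Fin 5) (ZMod 2)) = Matrix.transvection 0 1 1) :
    ∃ z : ↥M24, orderOf z = 2 ∧
      Nonempty (↥(Subgroup.centralizer ({z} : Set ↥M24)) ≃*
        ↥(Subgroup.centralizer ({s} : Set (Matrix.SpecialLinearGroup (Fin 5) (ZMod 2))))) := by
  let z : ↥M24 := ⟨zP, (mem_cz.1 zP_mem).1⟩
  refine ⟨z, orderOf_eq_prime ?_ ?_, ?_⟩
  · refine Subtype.ext ?_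
    rw [Subgroup.coe_pow, pow_two]
    show pL zL * pL zL = 1
    rw [← pL_compL zL_valid zL_valid, eqB_eq z_facts.2.1, pL_range]
  · intro e
    have hne := z_facts.2.2.1
    exact hne (pL_inj zL_valid (by decide +kernel) ((congrArg Subtype.val e).trans pL_range.symm))
  have hmem : ∀ g : ↥(Subgroup.centralizer ({z} : Set ↥M24)), g.1.1 ∈ cz := fun g =>
    mem_cz.2 ⟨g.1.2, congrArg Subtype.val (Subgroup.mem_centralizer_singleton_iff.1 g.2)⟩
  let incl : ↥(Subgroup.centralizer ({z} : Set ↥M24)) →* ↥cz :=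
    MonoidHom.mk' (fun g => ⟨g.1.1, hmem g⟩) fun _ _ => rfl
  have hbij : Function.Bijective incl := by
    refine ⟨fun a b h => Subtype.ext (Subtype.ext (congrArg (fun x : ↥cz => x.1) h)), fun g => ?_⟩
    exact ⟨⟨⟨g.1, (mem_cz.1 g.2).1⟩, Subgroup.mem_centralizer_singleton_iff.2
      (Subtype.ext (mem_cz.1 g.2).2)⟩, rfl⟩
  let f : ↥cz →* ↥(Subgroup.centralizer
      ({s} : Set (Matrix.SpecialLinearGroup (Fin 5) (ZMod 2)))) :=
    toSL.codRestrict _ fun g => Subgroup.mem_centralizer_singleton_iff.2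
      (Subtype.ext (by simpa [hs, tv] using toSL_comm g))
  have hf : Function.Injective f := fun a b h => toSL_inj (congrArg Subtype.val h)
  have hfb : Function.Bijective f :=
    hf.bijective_of_nat_card_le (by rw [card_cz]; exact card_centralizer_le s hs)
  exact ⟨(MulEquiv.ofBijective incl hbij).trans (MulEquiv.ofBijective f hfb)⟩

end CfsgLib.MathieuOut.Transvec
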